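import Cfsg.Prelude.Def_LieTypeDatum
import Cfsg.Agent.Lib.Forms.Classify
import Cfsg.Agent.Lib.Forms.Symp
import Cfsg.Agent.Lib.QForm.Gram

/-!
Similitude groups of bilinear forms given by matrices, congruence up to a scalar, and the classification of
invertible alternating and (odd characteristic) symmetric matrices.
-/

set_option autoImplicit false

open Matrix
open scoped MatrixGroups

namespace Cfsg.Agent.GraphAut

variable {ι κ μ : Type} [Fintype ι] [DecidableEq ι] [Fintype κ] [DecidableEq κ] [Fintype μ] [DecidableEq μ]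
variable {F : Type*} [Field F]

omit [DecidableEq ι] [DecidableEq κ] in
theorem bil_mulVec (M : Matrix ι ι F) (P : Matrix ι κ F) (u v : κ → F) :
    (P *ᵥ u) ⬝ᵥ (M *ᵥ (P *ᵥ v)) = u ⬝ᵥ ((Pᵀ * M * P) *ᵥ v) := by
  rw [Matrix.mul_assoc, ← Matrix.mulVec_mulVec, ← Matrix.mulVec_mulVec, Matrix.dotProduct_mulVec u Pᵀ,
    Matrix.vecMul_transpose]

theorem bil_inj {A B : Matrix ι ι F} (h : ∀ u v, u ⬝ᵥ (A *ᵥ v) = u ⬝ᵥ (B *ᵥ v)) : A = B := by
  ext i j
  simpa using h (Pi.single i 1) (Pi.single j 1)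

/-- The similitude group of the form `u ⬝ᵥ M *ᵥ v`. -/
def simM (M : Matrix ι ι F) : Subgroup (GL ι F) := Cfsg.Geo.similarityGroup fun u v => u ⬝ᵥ (M *ᵥ v)

theorem mem_simM {M : Matrix ι ι F} {g : GL ι F} :
    g ∈ simM M ↔ ∃ c : Fˣ, g.valᵀ * M * g.val = (c : F) • M := by
  constructor
  · rintro ⟨c, hc⟩
    refine ⟨c, bil_inj fun u v => ?_⟩
    rw [← bil_mulVec, Matrix.smul_mulVec, dotProduct_smul, smul_eq_mul]
    exact hc u v
  · rintro ⟨c, hc⟩
    refine ⟨c, fun u v => ?_⟩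
    show (g.val *ᵥ u) ⬝ᵥ (M *ᵥ (g.val *ᵥ v)) = _
    rw [bil_mulVec, hc, Matrix.smul_mulVec, dotProduct_smul, smul_eq_mul]

theorem GSp_eq (m : ℕ) : Cfsg.GSp m F = simM (Matrix.J (Fin m) F) := rfl

/-- The isometry group of the form `u ⬝ᵥ M *ᵥ v`. -/
def isoM (M : Matrix ι ι F) : Subgroup (GL ι F) where
  carrier := {g | g.valᵀ * M * g.val = M}
  one_mem' := by simp
  mul_mem' {a b} (ha : a.valᵀ * M * a.val = M) (hb : b.valᵀ * M * b.val = M) := by
    show (a * b).valᵀ * M * (a * b).val = M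
    rw [Units.val_mul, Matrix.transpose_mul]
    calc b.valᵀ * a.valᵀ * M * (a.val * b.val) = b.valᵀ * (a.valᵀ * M * a.val) * b.val := by
          simp only [Matrix.mul_assoc]
      _ = M := by rw [ha, hb]
  inv_mem' {a} (ha : a.valᵀ * M * a.val = M) := by
    show (a⁻¹).valᵀ * M * (a⁻¹).val = M
    conv_lhs => rw [← ha]
    calc (a⁻¹).valᵀ * (a.valᵀ * M * a.val) * (a⁻¹).val
        = (a.val * (a⁻¹).val)ᵀ * M * (a.val * (a⁻¹).val) := by
          rw [Matrix.transpose_mul]; simp only [Matrix.mul_assoc]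
      _ = M := by simp

theorem mem_isoM {M : Matrix ι ι F} {g : GL ι F} : g ∈ isoM M ↔ g.valᵀ * M * g.val = M := Iff.rfl

theorem isoM_le_simM (M : Matrix ι ι F) : isoM M ≤ simM M := fun g hg =>
  mem_simM.2 ⟨1, by rw [Units.val_one, one_smul]; exact hg⟩

theorem scalar_mem_simM (M : Matrix ι ι F) (c : Fˣ) : Matrix.GeneralLinearGroup.scalar ι c ∈ simM M :=
  mem_simM.2 ⟨c * c, by
    ext i j
    simp [Matrix.GeneralLinearGroup.coe_scalar, Matrix.diagonal_mul, Matrix.mul_diagonal]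
    ring⟩

theorem mem_scalars {g : GL ι F} :
    g ∈ Cfsg.Geo.scalars ι F ↔ ∃ c : Fˣ, Matrix.GeneralLinearGroup.scalar ι c = g :=
  ⟨fun ⟨c, hc⟩ => ⟨c, hc⟩, fun ⟨c, hc⟩ => ⟨c, hc⟩⟩

theorem scalars_le_simM (M : Matrix ι ι F) : Cfsg.Geo.scalars ι F ≤ simM M := fun g hg => by
  obtain ⟨c, rfl⟩ := mem_scalars.1 hg
  exact scalar_mem_simM M c

/-! ### Transport -/

/-- An isomorphism of general linear groups fixing scalars induces one of projective quotients. -/
noncomputable def projQuotCongr (φ : GL ι F ≃* GL κ F)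
    (hφ : ∀ c : Fˣ, φ (Matrix.GeneralLinearGroup.scalar ι c) = Matrix.GeneralLinearGroup.scalar κ c)
    {H : Subgroup (GL ι F)} {H' : Subgroup (GL κ F)} (h : ∀ g, g ∈ H ↔ φ g ∈ H') :
    Cfsg.projQuot H ≃* Cfsg.projQuot H' :=
  let e : H ≃* H' :=
    { toFun := fun g => ⟨φ g, (h _).1 g.2⟩
      invFun := fun g => ⟨φ.symm g, (h _).2 (by rw [φ.apply_symm_apply]; exact g.2)⟩
      left_inv := fun g => Subtype.ext (φ.symm_apply_apply _)
      right_inv := fun g => Subtype.ext (φ.apply_symm_apply _)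
      map_mul' := fun a b => Subtype.ext (map_mul φ _ _) }
  QuotientGroup.congr _ _ e (by
    ext g
    constructor
    · rintro ⟨x, hx, rfl⟩
      obtain ⟨c, hc⟩ := mem_scalars.1 hx
      refine mem_scalars.2 ⟨c, ?_⟩
      show _ = φ (x : GL ι F)
      rw [← hφ, hc, Subgroup.coe_subtype]
    · intro hg
      obtain ⟨c, hc⟩ := mem_scalars.1 hg
      refine ⟨e.symm g, mem_scalars.2 ⟨c, ?_⟩, e.apply_symm_apply g⟩
      show _ = φ.symm (g : GL κ F)
      rw [Subgroup.coe_subtype] at hc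
      rw [← hc, ← hφ, φ.symm_apply_apply])

/-- Conjugation by an invertible rectangular matrix. -/
def conjEquiv (P : Matrix ι κ F) (Q : Matrix κ ι F) (h1 : P * Q = 1) (h2 : Q * P = 1) : GL ι F ≃* GL κ F where
  toFun k := ⟨Q * k.val * P, Q * (k⁻¹).val * P, by
    calc Q * k.val * P * (Q * (k⁻¹).val * P) = Q * (k.val * (P * Q) * (k⁻¹).val) * P := by
          simp only [Matrix.mul_assoc]
      _ = 1 := by rw [h1, Matrix.mul_one, Units.mul_inv, Matrix.mul_one, h2], by
    calc Q * (k⁻¹).val * P * (Q * k.val * P) = Q * ((k⁻¹).val * (P * Q) * k.val) * P := by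
          simp only [Matrix.mul_assoc]
      _ = 1 := by rw [h1, Matrix.mul_one, Units.inv_mul, Matrix.mul_one, h2]⟩
  invFun k := ⟨P * k.val * Q, P * (k⁻¹).val * Q, by
    calc P * k.val * Q * (P * (k⁻¹).val * Q) = P * (k.val * (Q * P) * (k⁻¹).val) * Q := by
          simp only [Matrix.mul_assoc]
      _ = 1 := by rw [h2, Matrix.mul_one, Units.mul_inv, Matrix.mul_one, h1], by
    calc P * (k⁻¹).val * Q * (P * k.val * Q) = P * ((k⁻¹).val * (Q * P) * k.val) * Q := by
          simp only [Matrix.mul_assoc]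
      _ = 1 := by rw [h2, Matrix.mul_one, Units.inv_mul, Matrix.mul_one, h1]⟩
  left_inv k := Units.ext (by
    show P * (Q * k.val * P) * Q = k.val
    calc P * (Q * k.val * P) * Q = (P * Q) * k.val * (P * Q) := by simp only [Matrix.mul_assoc]
      _ = k.val := by rw [h1, Matrix.one_mul, Matrix.mul_one])
  right_inv k := Units.ext (by
    show Q * (P * k.val * Q) * P = k.val
    calc Q * (P * k.val * Q) * P = (Q * P) * k.val * (Q * P) := by simp only [Matrix.mul_assoc]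
      _ = k.val := by rw [h2, Matrix.one_mul, Matrix.mul_one])
  map_mul' k l := Units.ext (by
    show Q * (k.val * l.val) * P = Q * k.val * P * (Q * l.val * P)
    calc Q * (k.val * l.val) * P = Q * (k.val * (P * Q) * l.val) * P := by rw [h1, Matrix.mul_one]
      _ = Q * k.val * P * (Q * l.val * P) := by simp only [Matrix.mul_assoc])

theorem conjEquiv_val (P : Matrix ι κ F) (Q : Matrix κ ι F) (h1 : P * Q = 1) (h2 : Q * P = 1) (k : GL ι F) :
    (conjEquiv P Q h1 h2 k).val = Q * k.val * P := rfl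

theorem conjEquiv_scalar (P : Matrix ι κ F) (Q : Matrix κ ι F) (h1 : P * Q = 1) (h2 : Q * P = 1) (c : Fˣ) :
    conjEquiv P Q h1 h2 (Matrix.GeneralLinearGroup.scalar ι c) = Matrix.GeneralLinearGroup.scalar κ c := by
  refine Units.ext ?_
  have e1 : (Matrix.GeneralLinearGroup.scalar ι c).val = (c : F) • 1 := by
    simp [Matrix.GeneralLinearGroup.coe_scalar, Matrix.smul_one_eq_diagonal]
  have e2 : (Matrix.GeneralLinearGroup.scalar κ c).val = (c : F) • 1 := by
    simp [Matrix.GeneralLinearGroup.coe_scalar, Matrix.smul_one_eq_diagonal]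
  rw [conjEquiv_val, e1, e2, Matrix.mul_smul, Matrix.mul_one, Matrix.smul_mul, h2]

/-- Congruence up to a scalar. -/
def MatSim (M : Matrix ι ι F) (N : Matrix κ κ F) : Prop :=
  ∃ (P : Matrix ι κ F) (Q : Matrix κ ι F) (c : Fˣ), P * Q = 1 ∧ Q * P = 1 ∧ Pᵀ * M * P = (c : F) • N

namespace MatSim

theorem refl (M : Matrix ι ι F) : MatSim M M := ⟨1, 1, 1, by simp, by simp, by simp⟩

theorem of_units {M N : Matrix ι ι F} (P : GL ι F) (c : Fˣ) (h : P.valᵀ * M * P.val = (c : F) • N) :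
    MatSim M N :=
  ⟨P.val, (P⁻¹).val, c, P.mul_inv, P.inv_mul, h⟩

theorem symm {M : Matrix ι ι F} {N : Matrix κ κ F} (h : MatSim M N) : MatSim N M := by
  obtain ⟨P, Q, c, h1, h2, h3⟩ := h
  refine ⟨Q, P, c⁻¹, h2, h1, ?_⟩
  have : (c : F) • (Qᵀ * N * Q) = M := by
    rw [← Matrix.smul_mul, ← Matrix.mul_smul, ← h3]
    calc Qᵀ * (Pᵀ * M * P) * Q = (P * Q)ᵀ * M * (P * Q) := by
          rw [Matrix.transpose_mul]; simp only [Matrix.mul_assoc]
      _ = M := by rw [h1]; simp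
  conv_rhs => rw [← this]
  rw [smul_smul, Units.inv_mul, one_smul]

theorem trans {M : Matrix ι ι F} {N : Matrix κ κ F} {L : Matrix μ μ F} (h : MatSim M N) (h' : MatSim N L) :
    MatSim M L := by
  obtain ⟨P, Q, c, h1, h2, h3⟩ := h
  obtain ⟨P', Q', c', h1', h2', h3'⟩ := h'
  refine ⟨P * P', Q' * Q, c * c', ?_, ?_, ?_⟩
  · calc P * P' * (Q' * Q) = P * (P' * Q') * Q := by simp only [Matrix.mul_assoc]
      _ = 1 := by rw [h1', Matrix.mul_one, h1]
  · calc Q' * Q * (P * P') = Q' * (Q * P) * P' := by simp only [Matrix.mul_assoc]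
      _ = 1 := by rw [h2, Matrix.mul_one, h2']
  · calc (P * P')ᵀ * M * (P * P') = P'ᵀ * (Pᵀ * M * P) * P' := by
          rw [Matrix.transpose_mul]; simp only [Matrix.mul_assoc]
      _ = ((c * c' : Fˣ) : F) • L := by
          rw [h3, Matrix.mul_smul, Matrix.smul_mul, h3', smul_smul, Units.val_mul]

theorem reindex (e : κ ≃ ι) (N : Matrix κ κ F) : MatSim (N.reindex e e) N := by
  refine ⟨(1 : Matrix ι ι F).submatrix id e, (1 : Matrix ι ι F).submatrix e id, 1, ?_, ?_, ?_⟩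
  · rw [Matrix.submatrix_mul_equiv, Matrix.mul_one, Matrix.submatrix_id_id]
  · rw [← Matrix.submatrix_mul _ _ e id e Function.bijective_id, Matrix.mul_one,
      Matrix.submatrix_one _ e.injective]
  · rw [Matrix.transpose_submatrix, Matrix.transpose_one, Matrix.reindex_apply, Units.val_one, one_smul]
    ext a b
    simp [Matrix.mul_apply, Matrix.one_apply]

theorem mem_simM_iff {M : Matrix ι ι F} {N : Matrix κ κ F} {P : Matrix ι κ F} {Q : Matrix κ ι F} {c : Fˣ}
    (h1 : P * Q = 1) (h2 : Q * P = 1) (h3 : Pᵀ * M * P = (c : F) • N) (k : GL ι F) :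
    k ∈ simM M ↔ conjEquiv P Q h1 h2 k ∈ simM N := by
  rw [GraphAut.mem_simM, GraphAut.mem_simM]
  have key : (Q * k.val * P)ᵀ * (Pᵀ * M * P) * (Q * k.val * P) = Pᵀ * (k.valᵀ * M * k.val) * P := by
    calc _ = Pᵀ * k.valᵀ * (P * Q)ᵀ * M * (P * Q) * k.val * P := by
          simp only [Matrix.transpose_mul, Matrix.mul_assoc]
      _ = _ := by rw [h1]; simp [Matrix.mul_assoc]
  have hinj : ∀ A B : Matrix ι ι F, Pᵀ * A * P = Pᵀ * B * P → A = B := by
    intro A B h
    have := congrArg (fun X => Qᵀ * X * Q) h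
    have e : ∀ A : Matrix ι ι F, Qᵀ * (Pᵀ * A * P) * Q = A := fun A => by
      calc Qᵀ * (Pᵀ * A * P) * Q = (P * Q)ᵀ * A * (P * Q) := by
            rw [Matrix.transpose_mul]; simp only [Matrix.mul_assoc]
        _ = A := by rw [h1]; simp
    simpa only [e] using this
  refine exists_congr fun d => ⟨fun hd => ?_, fun hd => ?_⟩
  · rw [hd, Matrix.mul_smul, Matrix.smul_mul, h3, Matrix.mul_smul, Matrix.smul_mul] at key
    rw [conjEquiv_val]
    refine smul_right_injective _ c.ne_zero (key.trans ?_)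
    exact smul_comm _ _ _
  · rw [conjEquiv_val] at hd
    rw [h3, Matrix.mul_smul, Matrix.smul_mul, hd, smul_comm, ← h3, ← Matrix.smul_mul, ← Matrix.mul_smul]
      at key
    exact hinj _ _ key.symm

theorem projQuot_equiv {M : Matrix ι ι F} {N : Matrix κ κ F} (h : MatSim M N) :
    Nonempty (Cfsg.projQuot (simM M) ≃* Cfsg.projQuot (simM N)) := by
  obtain ⟨P, Q, c, h1, h2, h3⟩ := h
  exact ⟨projQuotCongr (conjEquiv P Q h1 h2) (conjEquiv_scalar P Q h1 h2) (mem_simM_iff h1 h2 h3)⟩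

theorem det_simM {M : Matrix ι ι F} {N : Matrix κ κ F} (h : MatSim M N) :
    (simM M).map Matrix.GeneralLinearGroup.det = (simM N).map Matrix.GeneralLinearGroup.det := by
  obtain ⟨P, Q, c, h1, h2, h3⟩ := h
  have hdet : ∀ k, Matrix.GeneralLinearGroup.det (conjEquiv P Q h1 h2 k) = Matrix.GeneralLinearGroup.det k :=
    fun k => Units.ext (by
      simp only [Matrix.GeneralLinearGroup.val_det_apply, conjEquiv_val]
      exact Matrix.det_conj_of_mul_eq_one h2 h1)
  ext x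
  simp only [Subgroup.mem_map]
  constructor
  · rintro ⟨k, hk, rfl⟩
    exact ⟨_, (mem_simM_iff h1 h2 h3 k).1 hk, hdet k⟩
  · rintro ⟨k, hk, rfl⟩
    obtain ⟨l, rfl⟩ := (conjEquiv P Q h1 h2).surjective k
    exact ⟨l, (mem_simM_iff h1 h2 h3 l).2 hk, (hdet l).symm⟩

theorem transpose_eq {M : Matrix ι ι F} {N : Matrix κ κ F} (h : MatSim M N) {ε : F} (hM : Mᵀ = ε • M) :
    Nᵀ = ε • N := by
  obtain ⟨P, Q, c, -, -, h3⟩ := h
  refine smul_right_injective _ c.ne_zero ?_
  show (c : F) • Nᵀ = (c : F) • ε • N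
  rw [smul_comm, ← h3, ← Matrix.transpose_smul, ← h3, Matrix.transpose_mul, Matrix.transpose_mul,
    Matrix.transpose_transpose, hM, Matrix.smul_mul, Matrix.mul_smul, Matrix.mul_assoc]

theorem self_eq_zero {M : Matrix ι ι F} {N : Matrix κ κ F} (h : MatSim M N)
    (hM : ∀ v, v ⬝ᵥ (M *ᵥ v) = 0) (v : κ → F) : v ⬝ᵥ (N *ᵥ v) = 0 := by
  obtain ⟨P, Q, c, -, -, h3⟩ := h
  have := hM (P *ᵥ v)
  rw [bil_mulVec, h3, Matrix.smul_mulVec, dotProduct_smul, smul_eq_mul] at this
  exact (mul_eq_zero.1 this).resolve_left c.ne_zero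

/-- Coordinates give a congruence. -/
theorem of_coords {M : Matrix ι ι F} {N : Matrix κ κ F} (e : (ι → F) ≃ₗ[F] (κ → F)) (c : Fˣ)
    (h : ∀ x y, x ⬝ᵥ (M *ᵥ y) = (c : F) * (e x ⬝ᵥ (N *ᵥ e y))) : MatSim M N := by
  refine ⟨LinearMap.toMatrix' e.symm.toLinearMap, LinearMap.toMatrix' e.toLinearMap, c, ?_, ?_,
    bil_inj fun u v => ?_⟩
  · rw [← LinearMap.toMatrix'_comp, LinearEquiv.comp_coe, LinearEquiv.self_trans_symm]
    exact LinearMap.toMatrix'_id
  · rw [← LinearMap.toMatrix'_comp, LinearEquiv.comp_coe, LinearEquiv.symm_trans_self]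
    exact LinearMap.toMatrix'_id
  · rw [← bil_mulVec, LinearMap.toMatrix'_mulVec, LinearMap.toMatrix'_mulVec, h, Matrix.smul_mulVec,
      dotProduct_smul, smul_eq_mul]
    simp

end MatSim

/-! ### Orders -/

theorem card_projQuot_simM [Fintype F] [Nonempty ι] (M : Matrix ι ι F) (hM : M ≠ 0)
    (hmult : ∀ c : Fˣ, ∃ k : GL ι F, k.valᵀ * M * k.val = (c : F) • M) :
    Nat.card (Cfsg.projQuot (simM M)) = Nat.card (isoM M) := by
  classical
  choose k hk using hmult
  have hmem : ∀ c, k c ∈ simM M := fun c => mem_simM.2 ⟨c, hk c⟩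
  have hmul : ∀ (c : Fˣ) (h : isoM M), (k c * h : GL ι F).valᵀ * M * (k c * h : GL ι F).val = (c : F) • M := by
    intro c h
    rw [Units.val_mul, Matrix.transpose_mul]
    calc _ = (h : GL ι F).valᵀ * ((k c).valᵀ * M * (k c).val) * (h : GL ι F).val := by
          simp only [Matrix.mul_assoc]
      _ = _ := by rw [hk, Matrix.mul_smul, Matrix.smul_mul, mem_isoM.1 h.2]
  have hbij : Function.Bijective (fun p : Fˣ × isoM M =>
      (⟨k p.1 * p.2, mul_mem (hmem _) (isoM_le_simM M p.2.2)⟩ : simM M)) := by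
    refine ⟨fun p p' he => ?_, fun g => ?_⟩
    · have he' := congrArg Subtype.val he
      simp only at he'
      have hc : p.1 = p'.1 := by
        have := hmul p.1 p.2
        rw [he', hmul p'.1 p'.2] at this
        exact Units.ext (smul_left_injective F hM this).symm
      refine Prod.ext hc (Subtype.ext ?_)
      rw [hc] at he'
      exact mul_left_cancel he'
    · obtain ⟨c, hc⟩ := mem_simM.1 g.2
      refine ⟨(c, ⟨(k c)⁻¹ * g, ?_⟩), Subtype.ext (mul_inv_cancel_left _ _)⟩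
      rw [mem_isoM]
      refine smul_right_injective _ c.ne_zero ?_
      show (c : F) • (((k c)⁻¹ * g : GL ι F).valᵀ * M * ((k c)⁻¹ * g : GL ι F).val) = (c : F) • M
      rw [← Matrix.smul_mul, ← Matrix.mul_smul, ← hk c]
      calc _ = ((k c).val * ((k c)⁻¹ * g : GL ι F).val)ᵀ * M * ((k c).val * ((k c)⁻¹ * g : GL ι F).val) := by
            rw [Matrix.transpose_mul]; simp only [Matrix.mul_assoc]
        _ = _ := by rw [← Units.val_mul, mul_inv_cancel_left, hc, hk]
  have h1 : Nat.card (simM M) = Nat.card Fˣ * Nat.card (isoM M) := by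
    rw [← Nat.card_prod]
    exact (Nat.card_congr (Equiv.ofBijective _ hbij)).symm
  have h2 := Subgroup.card_eq_card_quotient_mul_card_subgroup ((Cfsg.Geo.scalars ι F).subgroupOf (simM M))
  have h3 : Nat.card ((Cfsg.Geo.scalars ι F).subgroupOf (simM M)) = Nat.card Fˣ := by
    rw [Nat.card_congr (Subgroup.subgroupOfEquivOfLe (scalars_le_simM M)).toEquiv]
    refine (Nat.card_congr (Equiv.ofBijective
      (fun c : Fˣ => (⟨Matrix.GeneralLinearGroup.scalar ι c, mem_scalars.2 ⟨c, rfl⟩⟩ : Cfsg.Geo.scalars ι F))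
      ⟨fun a b h => ?_, fun g => ?_⟩)).symm
    · obtain ⟨i⟩ := ‹Nonempty ι›
      have := congrArg (fun x : Cfsg.Geo.scalars ι F => (x : GL ι F).val i i) h
      exact Units.ext (by simpa [Matrix.GeneralLinearGroup.coe_scalar] using this)
    · obtain ⟨c, hc⟩ := mem_scalars.1 g.2
      exact ⟨c, Subtype.ext hc⟩
  rw [h1, h3, mul_comm] at h2
  exact (Nat.eq_of_mul_eq_mul_right Nat.card_pos h2).symm

/-! ### Quadratic forms -/

theorem polar_eq_bil (Q : QuadraticForm F (κ → F)) (u v : κ → F) :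
    QuadraticMap.polar ⇑Q u v = u ⬝ᵥ (QForm.gram ⇑Q ⇑(Pi.basisFun F κ) *ᵥ v) := by
  have h := LinearMap.BilinForm.apply_eq_dotProduct_toMatrix_mulVec (Pi.basisFun F κ)
    (QuadraticMap.polarBilin Q) u v
  rw [QuadraticMap.polarBilin_apply_apply, ← QForm.gram_eq_toMatrix] at h
  rw [h]
  simp only [show ∀ w : κ → F, ⇑((Pi.basisFun F κ).repr w) = w from fun w => by ext i; simp]

theorem quadSim_eq (h2 : (2 : F) ≠ 0) (Q : QuadraticForm F (κ → F)) {f : (κ → F) → F} (hf : ⇑Q = f) :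
    Cfsg.Geo.quadSimilarityGroup f = simM (QForm.gram ⇑Q ⇑(Pi.basisFun F κ)) := by
  subst hf
  ext g
  constructor
  · rintro ⟨c, hc⟩
    refine ⟨c, fun u v => ?_⟩
    show (g.val *ᵥ u) ⬝ᵥ _ = (c : F) * (u ⬝ᵥ _)
    rw [← polar_eq_bil, ← polar_eq_bil, QuadraticMap.polar, QuadraticMap.polar, ← Matrix.mulVec_add, hc, hc, hc]
    ring
  · rintro ⟨c, hc⟩
    refine ⟨c, fun v => mul_left_cancel₀ h2 ?_⟩
    have : ∀ w, (2 : F) * Q w = w ⬝ᵥ (QForm.gram ⇑Q ⇑(Pi.basisFun F κ) *ᵥ w) := fun w => by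
      rw [← polar_eq_bil, QuadraticMap.polar_self, two_smul, two_mul]
    rw [this, mul_left_comm, this]
    exact hc v v

theorem isometryGroup_eq (h2 : (2 : F) ≠ 0) (Q : QuadraticForm F (κ → F)) {f : (κ → F) → F} (hf : ⇑Q = f) :
    Cfsg.isometryGroup F f = isoM (QForm.gram ⇑Q ⇑(Pi.basisFun F κ)) := by
  subst hf
  ext g
  rw [mem_isoM]
  constructor
  · intro h
    have hg : ∀ v, Q (g.val *ᵥ v) = Q v := fun v => h v v
    refine bil_inj fun u v => ?_
    rw [← bil_mulVec, ← polar_eq_bil, ← polar_eq_bil, QuadraticMap.polar, QuadraticMap.polar,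
      ← Matrix.mulVec_add, hg, hg, hg]
  · intro h u v
    show Q (g.val *ᵥ u) = Q u
    refine mul_left_cancel₀ h2 ?_
    have : ∀ w, (2 : F) * Q w = w ⬝ᵥ (QForm.gram ⇑Q ⇑(Pi.basisFun F κ) *ᵥ w) := fun w => by
      rw [← polar_eq_bil, QuadraticMap.polar_self, two_smul, two_mul]
    rw [this, this, bil_mulVec, h]

omit [Fintype κ] [DecidableEq κ] in
theorem gram_symm {V : Type*} [AddCommGroup V] (Q : V → F) (b : κ → V) :
    (QForm.gram Q b)ᵀ = QForm.gram Q b := by
  ext i j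
  exact QuadraticMap.polar_comm Q _ _

/-! ### Classification -/

/-- An invertible alternating matrix is the symplectic one up to congruence. -/
theorem alt_matSim (M : Matrix ι ι F) (hdet : M.det ≠ 0) (halt : ∀ v, v ⬝ᵥ (M *ᵥ v) = 0) :
    ∃ m, Fintype.card ι = 2 * m ∧ MatSim M (Matrix.J (Fin m) F) := by
  classical
  let B : LinearMap.BilinForm F (ι → F) := Matrix.toBilin' M
  have hB : ∀ u v, B u v = u ⬝ᵥ (M *ᵥ v) := Matrix.toBilin'_apply' M
  obtain ⟨m, k, e, he⟩ := Forms.exists_alt_coords B (fun v => (hB v v).trans (halt v))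
  have hk : k = 0 := by
    by_contra hk
    let v := e.symm (Pi.single (.inr ⟨0, Nat.pos_of_ne_zero hk⟩) 1)
    have h0 : ∀ u, u ⬝ᵥ (M *ᵥ v) = 0 := by
      intro u
      rw [← hB, he, LinearEquiv.apply_symm_apply, sympForm]
      simp
    have hv : M *ᵥ v = 0 := dotProduct_eq_zero_iff.1 fun u => by rw [dotProduct_comm]; exact h0 u
    have hv0 : v = 0 := Matrix.eq_zero_of_mulVec_eq_zero hdet hv
    have := congrArg (fun w => e w (.inr ⟨0, Nat.pos_of_ne_zero hk⟩)) hv0
    simp [v] at this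
  subst hk
  let e' : (ι → F) ≃ₗ[F] (Fin m ⊕ Fin m → F) :=
    e.trans (LinearEquiv.funCongrLeft F F (Equiv.sumEmpty (Fin m ⊕ Fin m) (Fin 0)).symm)
  refine ⟨m, ?_, MatSim.of_coords e' (-1) fun x y => ?_⟩
  · have := e'.finrank_eq
    simpa [two_mul] using this
  · rw [← hB, he]
    show sympForm m F (e' y) (e' x) = _
    have hJ : e' y ⬝ᵥ (Matrix.J (Fin m) F *ᵥ e' x) = -(e' x ⬝ᵥ (Matrix.J (Fin m) F *ᵥ e' y)) := by
      rw [Matrix.dotProduct_mulVec, dotProduct_comm, ← Matrix.mulVec_transpose, Matrix.J_transpose,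
        Matrix.neg_mulVec, dotProduct_neg]
    rw [sympForm, hJ]
    simp

/-- Two invertible symmetric matrices with discriminants in one square class are congruent. -/
theorem cong_of_det [Fintype F] (h2 : (2 : F) ≠ 0) {n : ℕ} (g g' : Matrix (Fin (n + 1)) (Fin (n + 1)) F)
    (hg : gᵀ = g) (hg' : g'ᵀ = g') (hd : g.det ≠ 0) (hd' : g'.det ≠ 0) (hsq : IsSquare (g.det * g'.det)) :
    ∃ P : GL (Fin (n + 1)) F, P.valᵀ * g * P.val = g' := by
  classical
  obtain ⟨α, hα⟩ := FiniteField.exists_nonsquare (fun h : ringChar F = 2 => h2 (by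
    haveI : CharP F 2 := h ▸ ringChar.charP F
    exact CharTwo.two_eq_zero))
  let D : F → Matrix (Fin (n + 1)) (Fin (n + 1)) F := fun c => Matrix.diagonal fun i => if i = Fin.last n then c else 1
  have key : ∀ M : Matrix (Fin (n + 1)) (Fin (n + 1)) F, Mᵀ = M → M.det ≠ 0 →
      ∃ (P : GL (Fin (n + 1)) F) (c : F), (c = 1 ∨ c = α) ∧ P.valᵀ * M * P.val = D c := by
    intro M hM hMd
    let B : LinearMap.BilinForm F (Fin (n + 1) → F) := Matrix.toBilin' M
    have hB : ∀ u v, B u v = u ⬝ᵥ (M *ᵥ v) := Matrix.toBilin'_apply' M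
    obtain ⟨e, c, hc, he⟩ := Forms.exists_symm_coords (B := B) h2
      (fun x y => by rw [hB, hB, Matrix.dotProduct_mulVec, ← Matrix.mulVec_transpose, hM, dotProduct_comm])
      (fun x hx => by
        have h1 : M *ᵥ x = 0 := dotProduct_eq_zero_iff.1 fun y => by
          rw [← hM, Matrix.mulVec_transpose, ← Matrix.dotProduct_mulVec, ← hB]; exact hx y
        exact Matrix.eq_zero_of_mulVec_eq_zero hMd h1)
      (n := n) (by simp) hα
    let P : GL (Fin (n + 1)) F :=
      ⟨LinearMap.toMatrix' e.symm.toLinearMap, LinearMap.toMatrix' e.toLinearMap,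
        by rw [← LinearMap.toMatrix'_comp, LinearEquiv.comp_coe, LinearEquiv.self_trans_symm]; exact LinearMap.toMatrix'_id,
        by rw [← LinearMap.toMatrix'_comp, LinearEquiv.comp_coe, LinearEquiv.symm_trans_self]; exact LinearMap.toMatrix'_id⟩
    refine ⟨P, c, hc, bil_inj fun u v => ?_⟩
    rw [← bil_mulVec, LinearMap.toMatrix'_mulVec, LinearMap.toMatrix'_mulVec, ← hB, he]
    simp only [D, dotProduct, Matrix.mulVec_diagonal, LinearEquiv.coe_coe, LinearEquiv.apply_symm_apply]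
    exact Finset.sum_congr rfl fun i _ => by ring
  obtain ⟨P, c, hc, hP⟩ := key g hg hd
  obtain ⟨P', c', hc', hP'⟩ := key g' hg' hd'
  have hcc : c = c' := by
    have e1 := congrArg Matrix.det hP
    have e2 := congrArg Matrix.det hP'
    simp only [D, Matrix.det_mul, Matrix.det_transpose, Matrix.det_diagonal, Finset.prod_ite_eq',
      Finset.mem_univ, if_true] at e1 e2
    obtain ⟨s, hs⟩ := hsq
    have hcsq : IsSquare (c * c') := ⟨P.val.det * P'.val.det * s, by
      rw [← e1, ← e2]; linear_combination (P.val.det ^ 2 * P'.val.det ^ 2) * hs⟩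
    rcases hc with rfl | rfl <;> rcases hc' with rfl | rfl
    · rfl
    · exact absurd (by simpa using hcsq) hα
    · exact absurd (by simpa using hcsq) hα
    · rfl
  refine ⟨P * P'⁻¹, ?_⟩
  rw [Units.val_mul, Matrix.transpose_mul]
  calc _ = (P'⁻¹).valᵀ * (P.valᵀ * g * P.val) * (P'⁻¹).val := by simp only [Matrix.mul_assoc]
    _ = (P'⁻¹).valᵀ * (P'.valᵀ * g' * P'.val) * (P'⁻¹).val := by rw [hP, hcc, ← hP']
    _ = (P'.val * (P'⁻¹).val)ᵀ * g' * (P'.val * (P'⁻¹).val) := by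
          rw [Matrix.transpose_mul]; simp only [Matrix.mul_assoc]
    _ = g' := by simp

end Cfsg.Agent.GraphAut
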