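import Cfsg.Agent.Lib.GraphAut.Sim
import Cfsg.Agent.Lib.Forms.Quad
import Cfsg.Agent.Lib.QForm.Std

/-!
Characteristic two: non-alternating symmetric matrices, their isometry groups, and the odd-dimensional
orthogonal group.
-/

set_option autoImplicit false

open Matrix
open scoped MatrixGroups

namespace Cfsg.Agent.GraphAut

variable {F : Type*} [Field F]

theorem exists_sqrt [Fintype F] [CharP F 2] (a : F) : ∃ s, s * s = a :=
  (FiniteField.isSquare_of_char_two (ringChar.eq F 2) a).imp fun _ h => h.symm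

theorem exists_unit_sqrt [Fintype F] [CharP F 2] (a : Fˣ) : ∃ s : Fˣ, s * s = a := by
  obtain ⟨s, hs⟩ := exists_sqrt (a : F)
  exact ⟨Units.mk0 s fun h => a.ne_zero (by rw [← hs, h, zero_mul]), Units.ext hs⟩

theorem eq_one_of_mul_self [CharP F 2] {a : F} (h : a * a = 1) : a = 1 := by
  rcases mul_self_eq_one_iff.1 h with h | h
  · exact h
  · rw [h, CharTwo.neg_eq]

/-- A non-alternating symmetric form over a finite field of characteristic two has an orthonormal basis. -/
theorem exists_orth_coords [Fintype F] [CharP F 2] : ∀ (n : ℕ) {V : Type _} [AddCommGroup V] [Module F V]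
    [FiniteDimensional F V] (B : LinearMap.BilinForm F V), (∀ x y, B x y = B y x) →
    (∀ x, (∀ y, B x y = 0) → x = 0) → Module.finrank F V = n → ((∃ x, B x x ≠ 0) ∨ n = 0) →
    ∃ e : V ≃ₗ[F] (Fin n → F), ∀ x y, B x y = ∑ i, e x i * e y i := by
  intro n
  induction n with
  | zero =>
    intro V _ _ _ B _ _ hn _
    haveI : Subsingleton V := Module.finrank_zero_iff.1 hn
    exact ⟨(Module.finBasisOfFinrankEq F V hn).equivFun, fun x y => by
      rw [Subsingleton.elim x 0, map_zero]; simp⟩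
  | succ n ih =>
    intro V _ _ _ B hS hB hn hx
    obtain ⟨x, hx⟩ := hx.resolve_right (Nat.succ_ne_zero n)
    have h2 : ∀ a : F, a + a = 0 := CharTwo.add_self_eq_zero
    obtain ⟨v, hv, hC⟩ : ∃ v, B v v = 1 ∧ ((∃ c, B v c = 0 ∧ B c c ≠ 0) ∨ n = 0) := by
      obtain ⟨s, hs⟩ := exists_sqrt (B x x)
      have hs0 : s ≠ 0 := fun h => hx (by rw [← hs, h, zero_mul])
      have hv : B (s⁻¹ • x) (s⁻¹ • x) = 1 := by
        simp only [map_smul, LinearMap.smul_apply, smul_eq_mul, ← hs]
        field_simp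
      set v := s⁻¹ • x
      by_cases hC : (∃ c, B v c = 0 ∧ B c c ≠ 0) ∨ n = 0
      · exact ⟨v, hv, hC⟩
      rw [not_or] at hC
      have hS' : ∀ x y, (RingHom.id F) (B x y) = B y x := fun x y => hS x y
      have hfr := Forms.finrank_ker_unit B hv
      haveI : Nontrivial (LinearMap.ker (B v)) :=
        Module.nontrivial_of_finrank_pos (R := F) (by omega)
      obtain ⟨e, he⟩ := exists_ne (0 : LinearMap.ker (B v))
      obtain ⟨f, hf⟩ : ∃ f, Forms.restrictForm B (LinearMap.ker (B v)) e f ≠ 0 := by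
        by_contra h
        push Not at h
        exact he (Forms.restrictForm_sep hS' hB hv e h)
      rw [Forms.restrictForm_apply] at hf
      have hev : B v e = 0 := e.2
      have hfv : B v f = 0 := f.2
      have hcc : ∀ c, B v c = 0 → B c c = 0 := fun c hc => by_contra fun h => hC.1 ⟨c, hc, h⟩
      let f' : V := (B (e : V) f)⁻¹ • (f : V)
      have hf'v : B v f' = 0 := by simp [f', hfv]
      have hef : B (e : V) f' = 1 := by simp [f', inv_mul_cancel₀ hf]
      refine ⟨v + e, ?_, Or.inl ⟨v + f', ?_, ?_⟩⟩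
      · simp [hv, hev, hS (e : V) v, hcc _ hev]
      · simp [hv, hef, hS (e : V) v, hev, hf'v, h2]
      · simp [hv, hS f' v, hf'v, hcc _ hf'v]
    have hS' : ∀ x y, (RingHom.id F) (B x y) = B y x := fun x y => hS x y
    obtain ⟨e, he⟩ := ih (Forms.restrictForm B (LinearMap.ker (B v))) (fun x y => hS x y)
      (Forms.restrictForm_sep hS' hB hv) (by have := Forms.finrank_ker_unit B hv; omega)
      (hC.imp_left fun ⟨c, hc, hcc⟩ => ⟨⟨c, hc⟩, hcc⟩)
    refine ⟨(Forms.unitSplit B hv).trans ((LinearEquiv.prodCongr (LinearEquiv.refl F F) e).trans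
      (Forms.splitFirst n F).symm), fun x y => ?_⟩
    rw [Forms.unitSplit_form hS' hv x y, he, Fin.sum_univ_succ]
    simp [Forms.splitFirst]

theorem nonalt_matSim_one [Fintype F] [CharP F 2] {ι : Type} [Fintype ι] [DecidableEq ι] (M : Matrix ι ι F)
    (hM : Mᵀ = M) (hd : M.det ≠ 0) (hna : ∃ v, v ⬝ᵥ (M *ᵥ v) ≠ 0) {n : ℕ} (hn : Fintype.card ι = n) :
    MatSim M (1 : Matrix (Fin n) (Fin n) F) := by
  let B : LinearMap.BilinForm F (ι → F) := Matrix.toBilin' M
  have hB : ∀ u v, B u v = u ⬝ᵥ (M *ᵥ v) := Matrix.toBilin'_apply' M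
  obtain ⟨e, he⟩ := exists_orth_coords n B
    (fun x y => by rw [hB, hB, Matrix.dotProduct_mulVec, ← Matrix.mulVec_transpose, hM, dotProduct_comm])
    (fun x hx => Matrix.eq_zero_of_mulVec_eq_zero hd (dotProduct_eq_zero_iff.1 fun y => by
      rw [← hM, Matrix.mulVec_transpose, ← Matrix.dotProduct_mulVec, ← hB]; exact hx y))
    (by rw [Module.finrank_pi, hn]) (Or.inl (hna.imp fun v hv => by rwa [hB]))
  refine MatSim.of_coords e 1 fun x y => ?_
  rw [← hB, he, Units.val_one, one_mul, Matrix.one_mulVec]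
  rfl

theorem nonalt_matSim [Fintype F] [CharP F 2] {ι κ : Type} [Fintype ι] [DecidableEq ι] [Fintype κ]
    [DecidableEq κ] {M : Matrix ι ι F} {N : Matrix κ κ F} (hM : Mᵀ = M) (hd : M.det ≠ 0)
    (hna : ∃ v, v ⬝ᵥ (M *ᵥ v) ≠ 0) (hN : Nᵀ = N) (hdN : N.det ≠ 0) (hnaN : ∃ v, v ⬝ᵥ (N *ᵥ v) ≠ 0)
    (hcard : Fintype.card ι = Fintype.card κ) : MatSim M N :=
  (nonalt_matSim_one M hM hd hna hcard).trans (nonalt_matSim_one N hN hdN hnaN rfl).symm

/-- A subgroup meeting every scalar coset once is the projective group. -/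
noncomputable def projEquiv {ι : Type} [Fintype ι] [DecidableEq ι] (H K : Subgroup (GL ι F)) (hKH : K ≤ H)
    (hsc : Cfsg.Geo.scalars ι F ≤ H)
    (hsurj : ∀ g ∈ H, ∃ c : Fˣ, g * Matrix.GeneralLinearGroup.scalar ι c ∈ K)
    (hinj : ∀ c : Fˣ, Matrix.GeneralLinearGroup.scalar ι c ∈ K →
      Matrix.GeneralLinearGroup.scalar ι c = 1) : K ≃* Cfsg.projQuot H :=
  MulEquiv.ofBijective ((QuotientGroup.mk' _).comp (Subgroup.inclusion hKH)) ⟨by
    rw [injective_iff_map_eq_one]
    intro k hk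
    rw [MonoidHom.comp_apply, QuotientGroup.mk'_apply, QuotientGroup.eq_one_iff, Subgroup.mem_subgroupOf] at hk
    obtain ⟨c, hc⟩ := mem_scalars.1 hk
    exact Subtype.ext ((hc.symm.trans (hinj c (hc ▸ k.2)))), by
    intro x
    obtain ⟨g, rfl⟩ := QuotientGroup.mk_surjective x
    obtain ⟨c, hc⟩ := hsurj g g.2
    refine ⟨⟨_, hc⟩, ?_⟩
    rw [MonoidHom.comp_apply, QuotientGroup.mk'_apply, QuotientGroup.eq, Subgroup.mem_subgroupOf]
    refine mem_scalars.2 ⟨c⁻¹, ?_⟩
    simp only [Subgroup.coe_mul, Subgroup.coe_inv, Subgroup.coe_inclusion, map_inv]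
    group⟩

theorem scalar_transpose {ι : Type} [Fintype ι] [DecidableEq ι] (c : Fˣ) :
    (Matrix.GeneralLinearGroup.scalar ι c).val = (c : F) • 1 := by
  simp [Matrix.GeneralLinearGroup.coe_scalar, Matrix.smul_one_eq_diagonal]

/-- In characteristic two the projective similitude group is the isometry group. -/
noncomputable def isoMEquiv [Fintype F] [CharP F 2] {ι : Type} [Fintype ι] [DecidableEq ι] (M : Matrix ι ι F)
    (hM : M ≠ 0) : isoM M ≃* Cfsg.projQuot (simM M) :=
  projEquiv _ _ (isoM_le_simM M) (scalars_le_simM M) (fun g hg => by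
    obtain ⟨d, hd⟩ := mem_simM.1 hg
    obtain ⟨s, hs⟩ := exists_unit_sqrt d
    refine ⟨s⁻¹, mem_isoM.2 ?_⟩
    rw [Units.val_mul, scalar_transpose, Matrix.mul_smul, Matrix.mul_one, Matrix.transpose_smul,
      Matrix.smul_mul, Matrix.smul_mul, Matrix.mul_smul, hd, smul_smul, smul_smul, ← Units.val_mul,
      ← Units.val_mul, ← hs]
    simp)
    (fun c hc => by
      rw [mem_isoM, scalar_transpose, Matrix.transpose_smul, Matrix.transpose_one, Matrix.smul_mul,
        Matrix.one_mul, Matrix.mul_smul, Matrix.mul_one, smul_smul] at hc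
      nth_rw 2 [← one_smul F M] at hc
      rw [show c = 1 from Units.ext (eq_one_of_mul_self (smul_left_injective F hM hc)), map_one])

/-! ### Symplectic group -/

theorem sp_alt {m : ℕ} (w : Fin m ⊕ Fin m → F) : w ⬝ᵥ (Matrix.J (Fin m) F *ᵥ w) = 0 :=
  (Forms.sympB_apply w w).symm.trans (Forms.sympB_isAlt m w)

theorem det_J_ne_zero (m : ℕ) : (Matrix.J (Fin m) F).det ≠ 0 := (Matrix.isUnit_det_J (Fin m) F).ne_zero

theorem sq_sum_diag {κ μ : Type} [Fintype κ] (B : Matrix κ μ F) (D : Matrix κ κ F) (i : μ) :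
    (Bᵀ * D * B) i i = (fun k => B k i) ⬝ᵥ (D *ᵥ fun k => B k i) := by
  rw [Matrix.mul_assoc]
  rfl

/-- The symplectic group as isometries of `J`. -/
noncomputable def spIsoEquiv (m : ℕ) : ↥(Matrix.symplecticGroup (Fin m) F) ≃* isoM (Matrix.J (Fin m) F) where
  toFun A := ⟨Matrix.nonsingInvUnit A.1 (SymplecticGroup.symplectic_det A.2),
    mem_isoM.2 (SymplecticGroup.mem_iff'.1 A.2)⟩
  invFun g := ⟨g.1.val, SymplecticGroup.mem_iff'.2 g.2⟩
  left_inv _ := rfl
  right_inv _ := Subtype.ext (Units.ext rfl)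
  map_mul' _ _ := Subtype.ext (Units.ext rfl)

/-- `1 ⊕ J`. -/
def oddModel (m : ℕ) (F : Type*) [Field F] : Matrix (Unit ⊕ (Fin m ⊕ Fin m)) (Unit ⊕ (Fin m ⊕ Fin m)) F :=
  Matrix.fromBlocks 1 0 0 (Matrix.J (Fin m) F)

theorem oddModel_det (m : ℕ) : (oddModel m F).det ≠ 0 := by
  rw [oddModel, Matrix.det_fromBlocks_zero₂₁, Matrix.det_one, one_mul]
  exact det_J_ne_zero m

theorem oddModel_transpose [CharP F 2] (m : ℕ) : (oddModel m F)ᵀ = oddModel m F := by
  rw [oddModel, Matrix.fromBlocks_transpose, Matrix.transpose_one, Matrix.transpose_zero, Matrix.transpose_zero,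
    Matrix.J_transpose]
  congr 1
  ext i j
  exact CharTwo.neg_eq _

theorem oddModel_nonalt (m : ℕ) : ∃ v, v ⬝ᵥ (oddModel m F *ᵥ v) ≠ 0 :=
  ⟨Pi.single (.inl ()) 1, by simp [oddModel]⟩

theorem oddModel_iso_blocks [CharP F 2] {m : ℕ} {g : GL (Unit ⊕ (Fin m ⊕ Fin m)) F} (hg : g ∈ isoM (oddModel m F)) :
    ∃ h : g.val.toBlocks₂₂ ∈ Matrix.symplecticGroup (Fin m) F,
      g.val = Matrix.fromBlocks 1 0 0 g.val.toBlocks₂₂ := by
  obtain ⟨a, b, c, d, he⟩ : ∃ a b c d, g.val = Matrix.fromBlocks a b c d :=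
    ⟨_, _, _, _, (Matrix.fromBlocks_toBlocks g.val).symm⟩
  rw [mem_isoM, he, oddModel, Matrix.fromBlocks_transpose, Matrix.fromBlocks_multiply,
    Matrix.fromBlocks_multiply] at hg
  simp only [Matrix.mul_one, Matrix.mul_zero, add_zero, zero_add, Matrix.fromBlocks_inj] at hg
  obtain ⟨h11, h12, -, h22⟩ := hg
  have hb : b = 0 := by
    ext u i
    have h := congrFun (congrFun h22 i) i
    rw [Matrix.add_apply, sq_sum_diag d, sp_alt] at h
    have hJ : Matrix.J (Fin m) F i i = 0 := by rcases i with i | i <;> simp [Matrix.J]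
    rw [hJ, add_zero, Matrix.mul_apply, Fintype.sum_unique, Matrix.transpose_apply] at h
    have hu : (default : Unit) = u := Subsingleton.elim _ _
    rw [hu] at h
    exact mul_self_eq_zero.1 h
  subst hb
  rw [Matrix.transpose_zero, Matrix.zero_mul, zero_add] at h22
  rw [Matrix.mul_zero, zero_add] at h12
  have hsp : d ∈ Matrix.symplecticGroup (Fin m) F := SymplecticGroup.mem_iff'.2 h22
  have hc : c = 0 := by
    have hu : IsUnit (Matrix.J (Fin m) F * d).det := by
      rw [Matrix.det_mul]; exact (Matrix.isUnit_det_J _ _).mul (SymplecticGroup.symplectic_det hsp)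
    have hct : cᵀ = 0 := by
      rw [← Matrix.mul_one cᵀ, ← Matrix.mul_nonsing_inv _ hu, ← Matrix.mul_assoc, ← Matrix.mul_assoc cᵀ, h12,
        Matrix.zero_mul]
    exact Matrix.transpose_eq_zero.1 hct
  subst hc
  rw [Matrix.transpose_zero, Matrix.zero_mul, Matrix.zero_mul, add_zero] at h11
  have ha : a = 1 := by
    ext u v
    rw [Subsingleton.elim v u, Matrix.one_apply_eq]
    have h := congrFun (congrFun h11 u) u
    rw [Matrix.one_apply_eq, Matrix.mul_apply, Fintype.sum_unique, Matrix.transpose_apply] at h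
    have hu : (default : Unit) = u := Subsingleton.elim _ _
    rw [hu] at h
    exact eq_one_of_mul_self h
  rw [he, Matrix.toBlocks_fromBlocks₂₂, ha]
  exact ⟨hsp, rfl⟩

/-- The isometries of `1 ⊕ J` are the symplectic group. -/
noncomputable def oddModelEquiv [CharP F 2] (m : ℕ) :
    isoM (oddModel m F) ≃* ↥(Matrix.symplecticGroup (Fin m) F) where
  toFun g := ⟨g.1.val.toBlocks₂₂, (oddModel_iso_blocks g.2).1⟩
  invFun A := ⟨Matrix.nonsingInvUnit (Matrix.fromBlocks 1 0 0 A.1) (by
      rw [Matrix.det_fromBlocks_zero₂₁, Matrix.det_one, one_mul]; exact SymplecticGroup.symplectic_det A.2),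
    mem_isoM.2 (by
      show (Matrix.fromBlocks 1 0 0 A.1)ᵀ * oddModel m F * Matrix.fromBlocks 1 0 0 A.1 = oddModel m F
      rw [oddModel, Matrix.fromBlocks_transpose, Matrix.fromBlocks_multiply, Matrix.fromBlocks_multiply]
      simp [SymplecticGroup.mem_iff'.1 A.2])⟩
  left_inv g := Subtype.ext (Units.ext (oddModel_iso_blocks g.2).2.symm)
  right_inv A := Subtype.ext (Matrix.toBlocks_fromBlocks₂₂ _ _ _ _)
  map_mul' g h := Subtype.ext (by
    show (g.1.val * h.1.val).toBlocks₂₂ = g.1.val.toBlocks₂₂ * h.1.val.toBlocks₂₂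
    conv_lhs => rw [(oddModel_iso_blocks g.2).2, (oddModel_iso_blocks h.2).2]
    simp [Matrix.fromBlocks_multiply])

theorem polar_odd_char2 [CharP F 2] {m : ℕ} (u v : Unit ⊕ (Fin m ⊕ Fin m) → F) :
    QuadraticMap.polar (quadFormOdd m F) u v =
      u ⬝ᵥ (Matrix.fromBlocks 0 0 0 (Matrix.J (Fin m) F) *ᵥ v) := by
  rw [QForm.polar_odd, CharTwo.two_eq_zero]
  simp [dotProduct, Matrix.mulVec, Matrix.J, Fintype.sum_sum_type, Matrix.one_apply, CharTwo.neg_eq,
    Finset.sum_add_distrib]

theorem quadFormOdd_single_zero (m : ℕ) : quadFormOdd m F (Pi.single (.inl ()) 1) = 1 := by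
  simp [quadFormOdd]

theorem quadFormOdd_inr (m : ℕ) (j : Fin m ⊕ Fin m) (c : F) :
    quadFormOdd m F (Pi.single (.inr j) c) = 0 := by
  rcases j with j | j <;> simp [quadFormOdd, Pi.single_apply]

theorem odd_iso_blocks [CharP F 2] {m : ℕ} {g : GL (Unit ⊕ (Fin m ⊕ Fin m)) F}
    (hg : g ∈ Cfsg.isometryGroup F (quadFormOdd m F)) :
    g.val.toBlocks₂₂ ∈ Matrix.symplecticGroup (Fin m) F ∧
      g.val = Matrix.fromBlocks 1 g.val.toBlocks₁₂ 0 g.val.toBlocks₂₂ := by
  have hQ : ∀ v, quadFormOdd m F (g.val *ᵥ v) = quadFormOdd m F v := fun v => hg v v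
  have hP : g.valᵀ * Matrix.fromBlocks 0 0 0 (Matrix.J (Fin m) F) * g.val =
      Matrix.fromBlocks (0 : Matrix Unit Unit F) 0 0 (Matrix.J (Fin m) F) := bil_inj fun u v => by
    rw [← bil_mulVec, ← polar_odd_char2, ← polar_odd_char2, QuadraticMap.polar, QuadraticMap.polar,
      ← Matrix.mulVec_add, hQ, hQ, hQ]
  obtain ⟨a, b, c, d, he⟩ : ∃ a b c d, g.val = Matrix.fromBlocks a b c d :=
    ⟨_, _, _, _, (Matrix.fromBlocks_toBlocks g.val).symm⟩
  rw [he, Matrix.fromBlocks_transpose, Matrix.fromBlocks_multiply, Matrix.fromBlocks_multiply] at hP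
  simp only [Matrix.mul_zero, add_zero, zero_add, Matrix.zero_mul, Matrix.fromBlocks_inj] at hP
  obtain ⟨-, h12, -, h22⟩ := hP
  have hsp : d ∈ Matrix.symplecticGroup (Fin m) F := SymplecticGroup.mem_iff'.2 h22
  have hc : c = 0 := by
    have hu : IsUnit (Matrix.J (Fin m) F * d).det := by
      rw [Matrix.det_mul]; exact (Matrix.isUnit_det_J _ _).mul (SymplecticGroup.symplectic_det hsp)
    have hct : cᵀ = 0 := by
      rw [← Matrix.mul_one cᵀ, ← Matrix.mul_nonsing_inv _ hu, ← Matrix.mul_assoc, ← Matrix.mul_assoc cᵀ, h12,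
        Matrix.zero_mul]
    exact Matrix.transpose_eq_zero.1 hct
  subst hc
  have ha : a = 1 := by
    ext u v
    rw [Subsingleton.elim u (), Subsingleton.elim v (), Matrix.one_apply_eq]
    have h := hQ (Pi.single (.inl ()) 1)
    rw [quadFormOdd_single_zero, Matrix.mulVec_single_one, he] at h
    have hcol : (Matrix.fromBlocks a b 0 d).col (.inl ()) = Pi.single (.inl ()) (a () ()) := by
      ext (i | i)
      · simp [Matrix.col]
      · simp [Matrix.col]
    rw [hcol] at h
    have hq : quadFormOdd m F (Pi.single (.inl ()) (a () ())) = a () () * a () () := by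
      simp [quadFormOdd, sq]
    rw [hq] at h
    exact eq_one_of_mul_self h
  rw [he, Matrix.toBlocks_fromBlocks₂₂, Matrix.toBlocks_fromBlocks₁₂, ha]
  exact ⟨hsp, rfl⟩

/-- The symplectic part of an element of `O_{2m+1}`. -/
def oddHom [CharP F 2] (m : ℕ) :
    Cfsg.isometryGroup F (quadFormOdd m F) →* ↥(Matrix.symplecticGroup (Fin m) F) where
  toFun g := ⟨(g : GL (Unit ⊕ (Fin m ⊕ Fin m)) F).val.toBlocks₂₂, (odd_iso_blocks g.2).1⟩
  map_one' := Subtype.ext (by
    show (1 : Matrix (Unit ⊕ (Fin m ⊕ Fin m)) (Unit ⊕ (Fin m ⊕ Fin m)) F).toBlocks₂₂ = 1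
    rw [← Matrix.fromBlocks_one, Matrix.toBlocks_fromBlocks₂₂])
  map_mul' g h := Subtype.ext (by
    show ((g : GL (Unit ⊕ (Fin m ⊕ Fin m)) F).val * (h : GL (Unit ⊕ (Fin m ⊕ Fin m)) F).val).toBlocks₂₂ = _
    conv_lhs => rw [(odd_iso_blocks g.2).2, (odd_iso_blocks h.2).2]
    simp [Matrix.fromBlocks_multiply])

theorem oddHom_eq_one [CharP F 2] (m : ℕ) (g : Cfsg.isometryGroup F (quadFormOdd m F))
    (hg : oddHom m g = 1) : g = 1 := by
  have hd : (g : GL (Unit ⊕ (Fin m ⊕ Fin m)) F).val.toBlocks₂₂ = 1 := congrArg Subtype.val hg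
  have he := (odd_iso_blocks g.2).2
  rw [hd] at he
  have hb : (g : GL (Unit ⊕ (Fin m ⊕ Fin m)) F).val.toBlocks₁₂ = 0 := by
    ext u j
    rw [Subsingleton.elim u ()]
    have h := g.2 (Pi.single (.inr j) 1) (Pi.single (.inr j) 1)
    change quadFormOdd m F ((g : GL (Unit ⊕ (Fin m ⊕ Fin m)) F).val *ᵥ _) = quadFormOdd m F _ at h
    rw [quadFormOdd_inr, Matrix.mulVec_single_one] at h
    have hcol : ((g : GL (Unit ⊕ (Fin m ⊕ Fin m)) F).val).col (.inr j) =
        Pi.single (.inl ()) ((g : GL (Unit ⊕ (Fin m ⊕ Fin m)) F).val.toBlocks₁₂ () j) + Pi.single (.inr j) 1 := by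
      rw [he]
      ext (i | i) <;> simp [Matrix.col, Pi.single_apply, Matrix.one_apply]
    rw [hcol] at h
    simp only [quadFormOdd, Pi.add_apply] at h
    rcases j with j | j <;> simp [Pi.single_apply] at h <;> exact h
  rw [hb, Matrix.fromBlocks_one] at he
  exact Subtype.ext (Units.ext he)

theorem oddHom_surjective [Fintype F] [CharP F 2] (m : ℕ) : Function.Surjective (oddHom (F := F) m) := by
  intro A
  let w : (Fin m ⊕ Fin m) → Fin m ⊕ Fin m → F := fun j => A.1.col j
  choose b hb using fun j => exists_sqrt (∑ i, w j (.inl i) * w j (.inr i))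
  let g : Matrix (Unit ⊕ (Fin m ⊕ Fin m)) (Unit ⊕ (Fin m ⊕ Fin m)) F :=
    Matrix.fromBlocks 1 (Matrix.of fun _ j => b j) 0 A.1
  have hdet : IsUnit g.det := by
    rw [Matrix.det_fromBlocks_zero₂₁, Matrix.det_one, one_mul]; exact SymplecticGroup.symplectic_det A.2
  have hpol : ∀ u v, QuadraticMap.polar (quadFormOdd m F) (g *ᵥ u) (g *ᵥ v) =
      QuadraticMap.polar (quadFormOdd m F) u v := by
    intro u v
    rw [polar_odd_char2, polar_odd_char2, bil_mulVec]
    simp [g, Matrix.fromBlocks_transpose, Matrix.fromBlocks_multiply, SymplecticGroup.mem_iff'.1 A.2]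
  have hbas : ∀ j, quadFormOdd m F (g *ᵥ Pi.single j 1) = quadFormOdd m F (Pi.single j 1) := by
    rintro (⟨⟩ | j)
    · rw [Matrix.mulVec_single_one]
      simp [g, quadFormOdd, Matrix.col, Pi.single_apply]
    · rw [Matrix.mulVec_single_one, quadFormOdd_inr]
      simp only [quadFormOdd, g, Matrix.col, Matrix.transpose_apply, Matrix.fromBlocks_apply₁₂,
        Matrix.fromBlocks_apply₂₂, Matrix.of_apply, sq, hb]
      exact CharTwo.add_self_eq_zero _
  have hall : ∀ v, quadFormOdd m F (g *ᵥ v) = quadFormOdd m F v := by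
    intro v
    have hQ : ∀ x y, quadFormOdd m F (x + y) =
        quadFormOdd m F x + quadFormOdd m F y + QuadraticMap.polar (quadFormOdd m F) x y := fun x y => by
      simp [QuadraticMap.polar]
    have hs : ∀ (c : F) x, quadFormOdd m F (c • x) = c * c * quadFormOdd m F x := fun c x => by
      simp [← Forms.quadOdd_apply, QuadraticMap.map_smul]
    suffices ∀ s : Finset (Unit ⊕ (Fin m ⊕ Fin m)),
        quadFormOdd m F (g *ᵥ ∑ i ∈ s, v i • Pi.single i (1 : F)) =
          quadFormOdd m F (∑ i ∈ s, v i • Pi.single i (1 : F)) by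
      have h := this Finset.univ
      rwa [← pi_eq_sum_univ' v] at h
    intro s
    induction s using Finset.induction_on with
    | empty => simp [quadFormOdd]
    | insert a s ha ih =>
      rw [Finset.sum_insert ha, Matrix.mulVec_add, hQ, hQ, ih, hpol, Matrix.mulVec_smul, hs, hs, hbas]
  refine ⟨⟨Matrix.nonsingInvUnit g hdet, fun u _ => hall u⟩, Subtype.ext ?_⟩
  exact Matrix.toBlocks_fromBlocks₂₂ _ _ _ _

/-- `O_{2m+1} ≅ Sp_{2m}` in characteristic two. -/
noncomputable def oddIsoEquiv [Fintype F] [CharP F 2] (m : ℕ) :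
    Cfsg.isometryGroup F (quadFormOdd m F) ≃* ↥(Matrix.symplecticGroup (Fin m) F) :=
  MulEquiv.ofBijective (oddHom m)
    ⟨(injective_iff_map_eq_one _).2 (oddHom_eq_one m), oddHom_surjective m⟩

theorem quadFormOdd_smul {m : ℕ} (c : F) (v : Unit ⊕ (Fin m ⊕ Fin m) → F) :
    quadFormOdd m F (c • v) = c * c * quadFormOdd m F v := by
  simp [← Forms.quadOdd_apply, QuadraticMap.map_smul]

/-- `PGO_{2m+1} ≅ Sp_{2m}` in characteristic two. -/
noncomputable def pgoOddEquiv [Fintype F] [CharP F 2] (m : ℕ) :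
    Cfsg.PGO F (quadFormOdd m F) ≃* ↥(Matrix.symplecticGroup (Fin m) F) :=
  (projEquiv (Cfsg.Geo.quadSimilarityGroup (quadFormOdd m F)) (Cfsg.isometryGroup F (quadFormOdd m F))
    (fun g hg => ⟨1, fun v => by rw [Units.val_one, one_mul]; exact hg v v⟩)
    (fun g hg => by
      obtain ⟨c, rfl⟩ := mem_scalars.1 hg
      exact ⟨c * c, fun v => by
        rw [scalar_transpose, Matrix.smul_mulVec, Matrix.one_mulVec, quadFormOdd_smul, Units.val_mul]⟩)
    (fun g hg => by
      obtain ⟨d, hd⟩ := hg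
      obtain ⟨s, hs⟩ := exists_unit_sqrt d
      refine ⟨s⁻¹, fun v _ => ?_⟩
      show quadFormOdd m F ((g * Matrix.GeneralLinearGroup.scalar _ s⁻¹).val *ᵥ v) = quadFormOdd m F v
      rw [Units.val_mul, scalar_transpose, Matrix.mul_smul, Matrix.mul_one, Matrix.smul_mulVec, quadFormOdd_smul,
        hd, ← mul_assoc, ← Units.val_mul, ← Units.val_mul, ← hs]
      simp)
    (fun c hc => by
      have h := hc (Pi.single (.inl ()) 1) 0
      change quadFormOdd m F ((Matrix.GeneralLinearGroup.scalar _ c).val *ᵥ _) = quadFormOdd m F _ at h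
      rw [scalar_transpose, Matrix.smul_mulVec, Matrix.one_mulVec, quadFormOdd_smul, quadFormOdd_single_zero,
        mul_one] at h
      rw [show c = 1 from Units.ext (eq_one_of_mul_self h), map_one])).symm.trans (oddIsoEquiv m)

/-! ### Even dimension -/

/-- The nilpotent part of a symplectic transvection. -/
def nilPart {m : ℕ} (a : Fin m) : Matrix (Fin m ⊕ Fin m) (Fin m ⊕ Fin m) F :=
  Matrix.single (.inr a) (.inl a) 1

/-- A symmetric non-alternating matrix in even dimension, characteristic two. -/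
def evenModel {m : ℕ} (a : Fin m) : Matrix (Fin m ⊕ Fin m) (Fin m ⊕ Fin m) F :=
  Matrix.J (Fin m) F + Matrix.single (.inl a) (.inl a) 1

theorem J_mul_nilPart {m : ℕ} (a : Fin m) :
    Matrix.J (Fin m) F * nilPart a = -Matrix.single (.inl a) (.inl a) 1 := by
  ext (i | i) (j | j) <;>
    simp [Matrix.J, nilPart, Matrix.mul_apply, Fintype.sum_sum_type, Matrix.one_apply, Matrix.single_apply, ite_and] <;>
    grind

theorem J_mul_single {m : ℕ} (a : Fin m) :
    Matrix.J (Fin m) F * Matrix.single (.inl a) (.inl a) 1 = nilPart a := by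
  ext (i | i) (j | j) <;>
    simp [Matrix.J, nilPart, Matrix.mul_apply, Fintype.sum_sum_type, Matrix.one_apply, Matrix.single_apply, ite_and] <;>
    grind

theorem nilPart_sq {m : ℕ} (a : Fin m) : nilPart a * nilPart a = (0 : Matrix _ _ F) :=
  Matrix.single_mul_single_of_ne (1 : F) _ _ _ (by simp) 1

theorem evenModel_det {m : ℕ} (a : Fin m) : (evenModel a : Matrix _ _ F).det ≠ 0 := by
  intro h
  have h1 : (Matrix.J (Fin m) F * evenModel a) * (-1 - nilPart a) = 1 := by
    rw [evenModel, Matrix.mul_add, Matrix.J_squared, J_mul_single]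
    linear_combination (norm := noncomm_ring) -nilPart_sq (F := F) a
  have := congrArg Matrix.det h1
  rw [Matrix.det_mul, Matrix.det_mul, h, mul_zero, zero_mul, Matrix.det_one] at this
  exact zero_ne_one this

theorem evenModel_transpose [CharP F 2] {m : ℕ} (a : Fin m) :
    (evenModel a : Matrix _ _ F)ᵀ = evenModel a := by
  rw [evenModel, Matrix.transpose_add, Matrix.J_transpose, Matrix.transpose_single]
  congr 1
  ext i j
  exact CharTwo.neg_eq _

theorem evenModel_nonalt {m : ℕ} (a : Fin m) :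
    ∃ v, v ⬝ᵥ ((evenModel a : Matrix _ _ F) *ᵥ v) ≠ 0 :=
  ⟨Pi.single (.inl a) 1, by simp [evenModel, Matrix.J]⟩

/-- A symplectic transvection. -/
def transv {m : ℕ} (a : Fin m) : ↥(Matrix.symplecticGroup (Fin m) F) :=
  ⟨1 + nilPart a, SymplecticGroup.mem_iff'.2 (by
    have h1 : (nilPart a : Matrix _ _ F)ᵀ * Matrix.J (Fin m) F = Matrix.single (.inl a) (.inl a) 1 := by
      rw [← Matrix.transpose_transpose ((nilPart a : Matrix _ _ F)ᵀ * Matrix.J (Fin m) F), Matrix.transpose_mul,
        Matrix.transpose_transpose, Matrix.J_transpose, Matrix.neg_mul, J_mul_nilPart, neg_neg,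
        Matrix.transpose_single]
    have h2 : Matrix.single (.inl a : Fin m ⊕ Fin m) (.inl a) (1 : F) * nilPart a = 0 :=
      Matrix.single_mul_single_of_ne (1 : F) _ _ _ (by simp) 1
    rw [Matrix.transpose_add, Matrix.transpose_one, Matrix.add_mul, Matrix.one_mul, h1, Matrix.mul_add,
      Matrix.mul_one, Matrix.add_mul, J_mul_nilPart, h2]
    abel)⟩

theorem transv_isTransvection {m : ℕ} (a : Fin m) :
    Cfsg.IsTransvection (transv (F := F) a).1 := by
  refine ⟨le_antisymm ?_ ?_, ?_⟩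
  · rw [show (transv (F := F) a).1 - 1 = nilPart a from add_sub_cancel_left _ _]
    have hv : (nilPart a : Matrix (Fin m ⊕ Fin m) (Fin m ⊕ Fin m) F) =
        Matrix.vecMulVec (Pi.single (.inr a) 1) (Pi.single (.inl a) 1) := by
      ext i j
      simp [nilPart, Matrix.single_apply, Matrix.vecMulVec, Pi.single_apply, ite_and, eq_comm]
      grind
    rw [hv]
    exact Matrix.rank_vecMulVec_le _ _
  · rw [show (transv (F := F) a).1 - 1 = nilPart a from add_sub_cancel_left _ _, Nat.one_le_iff_ne_zero]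
    intro h
    have h0 := LinearMap.range_eq_bot.1 (Submodule.finrank_eq_zero.1 h)
    have := congrFun (LinearMap.congr_fun h0 (Pi.single (.inl a) 1)) (.inr a)
    simp [nilPart, Matrix.mulVecLin] at this
  · rw [show (transv (F := F) a).1 - 1 = nilPart a from add_sub_cancel_left _ _]
    exact nilPart_sq a

theorem conj_single {ι : Type} [Fintype ι] [DecidableEq ι] (G : Matrix ι ι F) (a i j : ι) :
    (Gᵀ * Matrix.single a a (1 : F) * G) i j = G a i * G a j := by
  simp [Matrix.mul_apply, Matrix.single_apply, Finset.sum_mul, Finset.mul_sum, ite_and]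

theorem mem_iso_even_iff [CharP F 2] {m : ℕ} (a : Fin m) (g : GL (Fin m ⊕ Fin m) F) :
    g ∈ isoM (evenModel a) ↔ g.valᵀ * Matrix.J (Fin m) F * g.val = Matrix.J (Fin m) F ∧
      g.val * nilPart a = nilPart a * g.val := by
  rw [mem_isoM, evenModel, Matrix.mul_add, Matrix.add_mul]
  have key : g.valᵀ * Matrix.J (Fin m) F * g.val = Matrix.J (Fin m) F →
      (g.valᵀ * Matrix.single (.inl a) (.inl a) (1 : F) * g.val = Matrix.single (.inl a) (.inl a) (1 : F) ↔
        g.val * nilPart a = nilPart a * g.val) := by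
    intro hJ
    have e1 : g.valᵀ * Matrix.J (Fin m) F * (g.val * nilPart a) = -Matrix.single (.inl a) (.inl a) 1 := by
      rw [← Matrix.mul_assoc, hJ, J_mul_nilPart]
    have e2 : g.valᵀ * Matrix.J (Fin m) F * (nilPart a * g.val) =
        -(g.valᵀ * Matrix.single (.inl a) (.inl a) (1 : F) * g.val) := by
      rw [Matrix.mul_assoc, ← Matrix.mul_assoc (Matrix.J _ _), J_mul_nilPart, Matrix.neg_mul, Matrix.mul_neg,
        ← Matrix.mul_assoc]
    constructor
    · intro h
      have hu : IsUnit (g.valᵀ * Matrix.J (Fin m) F) := by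
        rw [Matrix.isUnit_iff_isUnit_det, Matrix.det_mul, Matrix.det_transpose]
        exact ((Matrix.isUnit_iff_isUnit_det _).1 g.isUnit).mul (Matrix.isUnit_det_J _ _)
      exact hu.mul_left_cancel (by rw [e1, e2, h])
    · intro h
      rw [h, e2] at e1
      exact neg_injective e1
  constructor
  · intro h
    have hr : g.valᵀ * Matrix.single (.inl a) (.inl a) (1 : F) * g.val = Matrix.single (.inl a) (.inl a) 1 := by
      have hd : ∀ i, g.val (.inl a) i = Pi.single (M := fun _ => F) (.inl a) 1 i := by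
        intro i
        have h' := congrFun (congrFun h i) i
        have hJ : Matrix.J (Fin m) F i i = 0 := by rcases i with i | i <;> simp [Matrix.J]
        rw [Matrix.add_apply, Matrix.add_apply, sq_sum_diag, sp_alt, conj_single, zero_add, hJ, zero_add,
          Matrix.single_apply] at h'
        rw [Pi.single_apply]
        split_ifs with hi
        · subst hi
          exact eq_one_of_mul_self (by simpa using h')
        · exact mul_self_eq_zero.1 (by simpa [Ne.symm hi] using h')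
      ext i j
      rw [conj_single, hd, hd, Matrix.single_apply, Pi.single_apply, Pi.single_apply, ite_zero_mul_ite_zero, mul_one]
      simp [eq_comm]
    rw [hr, add_left_inj] at h
    exact ⟨h, (key h).1 hr⟩
  · rintro ⟨h1, h2⟩
    rw [h1, (key h1).2 h2]

/-- Isometries of the even model are the centraliser of a symplectic transvection. -/
noncomputable def evenModelEquiv [CharP F 2] {m : ℕ} (a : Fin m) :
    isoM (evenModel (F := F) a) ≃* ↥(Subgroup.centralizer ({transv (F := F) a} : Set ↥(Matrix.symplecticGroup (Fin m) F))) where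
  toFun g := ⟨⟨g.1.val, SymplecticGroup.mem_iff'.2 ((mem_iso_even_iff a g.1).1 g.2).1⟩,
    Subgroup.mem_centralizer_singleton_iff.2 (Subtype.ext (by
      show g.1.val * (1 + nilPart a) = (1 + nilPart a) * g.1.val
      rw [Matrix.mul_add, Matrix.add_mul, Matrix.mul_one, Matrix.one_mul, ((mem_iso_even_iff a g.1).1 g.2).2]))⟩
  invFun A := ⟨Matrix.nonsingInvUnit A.1.1 (SymplecticGroup.symplectic_det A.1.2),
    (mem_iso_even_iff a _).2 ⟨SymplecticGroup.mem_iff'.1 A.1.2, by
      have h : A.1.1 * (1 + nilPart a) = (1 + nilPart a) * A.1.1 :=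
        congrArg Subtype.val (Subgroup.mem_centralizer_singleton_iff.1 A.2)
      rw [Matrix.mul_add, Matrix.add_mul, Matrix.mul_one, Matrix.one_mul] at h
      exact add_left_cancel h⟩⟩
  left_inv _ := Subtype.ext (Units.ext rfl)
  right_inv _ := rfl
  map_mul' _ _ := rfl

end Cfsg.Agent.GraphAut
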