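import Cfsg.Agent.Lib.GraphAut.Aut
import Cfsg.Agent.Lib.GraphAut.Char2

/-!
Determinants of similitudes, and models placed on `Fin n`.
-/

set_option autoImplicit false

open Matrix
open scoped MatrixGroups

namespace Cfsg.Agent.GraphAut

variable {F : Type*} [Field F] {m : ℕ}

local notation "GLn" => GL (Fin (m + 1)) F

/-- A model matrix moved onto `Fin n`. -/
def ofMat {κ : Type} [Fintype κ] [DecidableEq κ] (e : κ ≃ Fin (m + 1)) (N : Matrix κ κ F) (hN : N.det ≠ 0) :
    GLn :=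
  Matrix.GeneralLinearGroup.mkOfDetNeZero (N.reindex e e) (by rwa [Matrix.det_reindex_self])

theorem ofMat_val {κ : Type} [Fintype κ] [DecidableEq κ] (e : κ ≃ Fin (m + 1)) (N : Matrix κ κ F)
    (hN : N.det ≠ 0) : (ofMat e N hN).val = N.reindex e e := rfl

theorem matSim_ofMat {κ : Type} [Fintype κ] [DecidableEq κ] (e : κ ≃ Fin (m + 1)) (N : Matrix κ κ F)
    (hN : N.det ≠ 0) : MatSim (ofMat e N hN).val N := MatSim.reindex e N

theorem det_ne_zero (g : GLn) : g.val.det ≠ 0 := ((Matrix.isUnit_iff_isUnit_det _).1 g.isUnit).ne_zero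

theorem det_sim_sq {g k : GLn} {c : Fˣ} (h : k.valᵀ * g.val * k.val = (c : F) • g.val) :
    Matrix.GeneralLinearGroup.det k * Matrix.GeneralLinearGroup.det k = c ^ (m + 1) := by
  have hd := congrArg Matrix.det h
  rw [Matrix.det_mul, Matrix.det_mul, Matrix.det_transpose, Matrix.det_smul, Fintype.card_fin] at hd
  refine Units.ext (mul_right_cancel₀ (det_ne_zero g) ?_)
  simp only [Units.val_mul, Units.val_pow_eq_pow_val, Matrix.GeneralLinearGroup.val_det_apply]
  linear_combination hd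

theorem range_pow_le_det (g : GLn) :
    (powMonoidHom (m + 1) : Fˣ →* Fˣ).range ≤ (simM g.val).map Matrix.GeneralLinearGroup.det := by
  rintro _ ⟨c, rfl⟩
  exact ⟨_, scalar_mem_simM _ c, Units.ext (by
    simp [Matrix.GeneralLinearGroup.val_det_apply, Matrix.GeneralLinearGroup.coe_scalar])⟩

theorem units_mul_self_eq {a b : Fˣ} (h : a * a = b * b) : a = b ∨ a = -b := by
  rcases mul_self_eq_mul_self_iff.1 (show (a : F) * a = (b : F) * b by simpa using congrArg Units.val h) with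
    h | h
  · exact Or.inl (Units.ext h)
  · exact Or.inr (Units.ext (by rw [Units.val_neg]; exact h))

theorem det_simM_odd (g : GLn) {r : ℕ} (hr : m + 1 = 2 * r + 1) :
    (simM g.val).map Matrix.GeneralLinearGroup.det = (powMonoidHom (m + 1) : Fˣ →* Fˣ).range := by
  refine le_antisymm ?_ (range_pow_le_det g)
  rintro _ ⟨k, hk, rfl⟩
  obtain ⟨c, hc⟩ := mem_simM.1 hk
  set d := Matrix.GeneralLinearGroup.det k
  have hd : d * d = c ^ (m + 1) := det_sim_sq hc
  let s : Fˣ := d * (c ^ r)⁻¹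
  have hs : s * s = c := by
    simp only [s]
    rw [mul_mul_mul_comm, hd, hr, ← mul_inv, ← pow_add, ← two_mul, pow_succ', mul_inv_cancel_right]
  have h2 : d * d = s ^ (m + 1) * s ^ (m + 1) := by rw [hd, ← hs, mul_pow]
  rcases units_mul_self_eq h2 with h | h
  · exact ⟨s, h.symm⟩
  · refine ⟨-s, ?_⟩
    rw [powMonoidHom_apply, h, Odd.neg_pow ⟨r, hr⟩]

theorem det_simM_char2 [Fintype F] [CharP F 2] (g : GLn) :
    (simM g.val).map Matrix.GeneralLinearGroup.det = (powMonoidHom (m + 1) : Fˣ →* Fˣ).range := by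
  refine le_antisymm ?_ (range_pow_le_det g)
  rintro _ ⟨k, hk, rfl⟩
  obtain ⟨c, hc⟩ := mem_simM.1 hk
  obtain ⟨s, hs⟩ := exists_unit_sqrt c
  have h2 := det_sim_sq hc
  rw [← hs, mul_pow] at h2
  rcases units_mul_self_eq h2 with h | h
  · exact ⟨s, h.symm⟩
  · refine ⟨s, Units.ext ?_⟩
    rw [h, Units.val_neg, CharTwo.neg_eq]
    rfl

/-- `diag(c, …, c, 1, …, 1)`. -/
def symSim (k : ℕ) (c : Fˣ) : GL (Fin k ⊕ Fin k) F :=
  ⟨Matrix.fromBlocks ((c : F) • 1) 0 0 1, Matrix.fromBlocks (((c⁻¹ : Fˣ) : F) • 1) 0 0 1,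
    by simp [Matrix.fromBlocks_multiply, smul_smul], by simp [Matrix.fromBlocks_multiply, smul_smul]⟩

theorem symSim_spec (k : ℕ) (c : Fˣ) :
    (symSim k c).valᵀ * Matrix.J (Fin k) F * (symSim k c).val = (c : F) • Matrix.J (Fin k) F := by
  simp [symSim, Matrix.J, Matrix.fromBlocks_transpose, Matrix.fromBlocks_multiply, Matrix.fromBlocks_smul]

theorem symSim_det (k : ℕ) (c : Fˣ) : Matrix.GeneralLinearGroup.det (symSim k c) = c ^ k := by
  refine Units.ext ?_
  simp [symSim, Matrix.GeneralLinearGroup.val_det_apply, Matrix.det_smul]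

theorem det_simM_J (k : ℕ) :
    (simM (Matrix.J (Fin k) F)).map Matrix.GeneralLinearGroup.det = (powMonoidHom k : Fˣ →* Fˣ).range := by
  refine le_antisymm ?_ ?_
  · rintro _ ⟨g, hg, rfl⟩
    obtain ⟨c, hc⟩ := mem_simM.1 hg
    let h : GL (Fin k ⊕ Fin k) F := (symSim k c)⁻¹ * g
    have hh : h ∈ isoM (Matrix.J (Fin k) F) := by
      refine smul_right_injective _ c.ne_zero ?_
      show (c : F) • (h.valᵀ * Matrix.J (Fin k) F * h.val) = (c : F) • Matrix.J (Fin k) F
      rw [← hc, ← Matrix.smul_mul, ← Matrix.mul_smul, ← symSim_spec k c]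
      calc _ = ((symSim k c).val * h.val)ᵀ * Matrix.J (Fin k) F * ((symSim k c).val * h.val) := by
            rw [Matrix.transpose_mul]; simp only [Matrix.mul_assoc]
        _ = _ := by rw [← Units.val_mul, mul_inv_cancel_left, hc, ← symSim_spec k c]
    have hdet : Matrix.GeneralLinearGroup.det h = 1 :=
      Units.ext (SymplecticGroup.det_eq_one (SymplecticGroup.mem_iff'.2 hh))
    rw [map_mul, map_inv, inv_mul_eq_one, symSim_det] at hdet
    exact ⟨c, hdet⟩
  · rintro _ ⟨c, rfl⟩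
    exact ⟨_, mem_simM.2 ⟨c, symSim_spec k c⟩, symSim_det k c⟩

theorem det_simM_alt (g : GLn) (halt : ∀ v, v ⬝ᵥ (g.val *ᵥ v) = 0) :
    ∃ k, m + 1 = 2 * k ∧ MatSim g.val (Matrix.J (Fin k) F) ∧
      (simM g.val).map Matrix.GeneralLinearGroup.det = (powMonoidHom k : Fˣ →* Fˣ).range := by
  obtain ⟨k, hk, h⟩ := alt_matSim g.val (det_ne_zero g) halt
  rw [Fintype.card_fin] at hk
  exact ⟨k, hk, h, h.det_simM.trans (det_simM_J k)⟩

theorem exists_sim_of_sym [Fintype F] (h2 : (2 : F) ≠ 0) {k : ℕ} (hk : m + 1 = 2 * k) (g : GLn)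
    (hs : g.valᵀ = g.val) (c : Fˣ) : ∃ P : GLn, P.valᵀ * g.val * P.val = (c : F) • g.val := by
  refine cong_of_det h2 g.val _ hs (by rw [Matrix.transpose_smul, hs]) (det_ne_zero g)
    (by rw [Matrix.det_smul]; exact mul_ne_zero (pow_ne_zero _ c.ne_zero) (det_ne_zero g))
    ⟨g.val.det * (c : F) ^ k, ?_⟩
  rw [Matrix.det_smul, Fintype.card_fin, show (c : F) ^ (m + 1) = (c : F) ^ k * (c : F) ^ k by
    rw [← pow_add, hk, two_mul]]
  ring

theorem exists_reflection [Fintype F] (h2 : (2 : F) ≠ 0) (g : GLn) (hs : g.valᵀ = g.val) :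
    ∃ r : GLn, r ∈ isoM g.val ∧ Matrix.GeneralLinearGroup.det r = -1 := by
  let d : Fin (m + 1) → F := Function.update 1 0 g.val.det
  have hd : (Matrix.diagonal d).det = g.val.det := by
    rw [Matrix.det_diagonal, Finset.prod_update_of_mem (Finset.mem_univ _)]
    simp
  obtain ⟨P, hP⟩ := cong_of_det h2 g.val (Matrix.diagonal d) hs (Matrix.diagonal_transpose d) (det_ne_zero g)
    (by rw [hd]; exact det_ne_zero g) ⟨g.val.det, by rw [hd]⟩
  let u : Fin (m + 1) → F := Function.update 1 0 (-1)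
  have hu : (Matrix.diagonal u).det = -1 := by
    rw [Matrix.det_diagonal, Finset.prod_update_of_mem (Finset.mem_univ _)]
    simp
  let R : GLn := Matrix.GeneralLinearGroup.mkOfDetNeZero (Matrix.diagonal u) (by rw [hu]; simp)
  have hR : R ∈ isoM (Matrix.diagonal d) := by
    rw [mem_isoM]
    show (Matrix.diagonal u)ᵀ * Matrix.diagonal d * Matrix.diagonal u = _
    rw [Matrix.diagonal_transpose, Matrix.diagonal_mul_diagonal, Matrix.diagonal_mul_diagonal]
    congr 1
    funext i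
    rcases eq_or_ne i 0 with rfl | hi
    · simp [u]
    · simp [u, hi]
  refine ⟨P * R * P⁻¹, mem_isoM.2 ?_, ?_⟩
  · calc (P * R * P⁻¹).valᵀ * g.val * (P * R * P⁻¹).val
        = (P⁻¹).valᵀ * (R.valᵀ * (P.valᵀ * g.val * P.val) * R.val) * (P⁻¹).val := by
          simp only [Units.val_mul, Matrix.transpose_mul, Matrix.mul_assoc]
      _ = (P⁻¹).valᵀ * (P.valᵀ * g.val * P.val) * (P⁻¹).val := by rw [hP, mem_isoM.1 hR]
      _ = (P.val * (P⁻¹).val)ᵀ * g.val * (P.val * (P⁻¹).val) := by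
          rw [Matrix.transpose_mul]; simp only [Matrix.mul_assoc]
      _ = g.val := by simp
  · rw [map_mul, map_mul, map_inv, mul_inv_eq_iff_eq_mul, mul_comm]
    congr 1
    refine Units.ext ?_
    rw [Units.val_neg, Units.val_one]
    exact hu

theorem index_det_simM_sym [Fintype F] (h2 : (2 : F) ≠ 0) {k : ℕ} (hk : m + 1 = 2 * k) (g : GLn)
    (hs : g.valᵀ = g.val) :
    2 * ((simM g.val).map Matrix.GeneralLinearGroup.det).index = Nat.gcd (m + 1) (Fintype.card F - 1) := by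
  set N := (powMonoidHom (m + 1) : Fˣ →* Fˣ).range with hN
  set T := (powMonoidHom 2 : Fˣ →* Fˣ).range with hT
  have hD : (simM g.val).map Matrix.GeneralLinearGroup.det = N.comap (powMonoidHom 2) := by
    ext d
    rw [Subgroup.mem_comap, powMonoidHom_apply, sq]
    constructor
    · rintro ⟨P, hP, rfl⟩
      obtain ⟨c, hc⟩ := mem_simM.1 hP
      exact ⟨c, (det_sim_sq hc).symm⟩
    · rintro ⟨c, hc⟩
      obtain ⟨P, hP⟩ := exists_sim_of_sym h2 hk g hs c
      obtain ⟨r, hr, hrd⟩ := exists_reflection h2 g hs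
      have hc' : c ^ (m + 1) = d * d := hc
      rw [← det_sim_sq hP] at hc'
      have hPm : P ∈ simM g.val := mem_simM.2 ⟨c, hP⟩
      rcases units_mul_self_eq hc'.symm with h | h
      · exact ⟨P, hPm, h.symm⟩
      · refine ⟨r * P, mul_mem (isoM_le_simM _ hr) hPm, ?_⟩
        rw [map_mul, hrd, h, neg_one_mul]
  have hle : N ≤ T := by
    rintro _ ⟨c, rfl⟩
    exact ⟨c ^ k, by rw [powMonoidHom_apply, powMonoidHom_apply, ← pow_mul, hk, mul_comm k 2]⟩
  have hT2 : T.index = 2 := by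
    rw [hT, IsCyclic.index_powMonoidHom_range, Nat.card_units, Nat.card_eq_fintype_card]
    have hodd : Fintype.card F % 2 = 1 := FiniteField.odd_card_of_char_ne_two fun h => h2 (by
      haveI : CharP F 2 := h ▸ ringChar.charP F
      exact CharTwo.two_eq_zero)
    exact Nat.gcd_eq_right (Nat.dvd_of_mod_eq_zero (by omega))
  have h1 := Subgroup.relIndex_mul_index hle
  rw [hT2, hN, IsCyclic.index_powMonoidHom_range, Nat.card_units, Nat.card_eq_fintype_card,
    Nat.gcd_comm] at h1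
  rw [hD, Subgroup.index_comap, ← h1, mul_comm]

theorem index_range_pow [Fintype F] (d : ℕ) :
    (powMonoidHom d : Fˣ →* Fˣ).range.index = Nat.gcd d (Fintype.card F - 1) := by
  rw [IsCyclic.index_powMonoidHom_range, Nat.card_units, Nat.card_eq_fintype_card, Nat.gcd_comm]

theorem sym_of_odd [Fintype F] (h2 : (2 : F) ≠ 0) {r : ℕ} (hr : m + 1 = 2 * r + 1) (g : GLn) {ε : F}
    (hε : g.valᵀ = ε • g.val) (hpm : ε = 1 ∨ ε = -1) : g.valᵀ = g.val := by
  rcases hpm with rfl | rfl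
  · rwa [one_smul] at hε
  · exfalso
    have h := congrArg Matrix.det hε
    rw [Matrix.det_transpose, Matrix.det_smul, Fintype.card_fin, Odd.neg_one_pow ⟨r, hr⟩, neg_one_mul] at h
    have : (2 : F) * g.val.det = 0 := by linear_combination h
    exact mul_ne_zero h2 (det_ne_zero g) this

theorem alt_of_skew (h2 : (2 : F) ≠ 0) {g : Matrix (Fin (m + 1)) (Fin (m + 1)) F} (hg : gᵀ = -g)
    (v : Fin (m + 1) → F) : v ⬝ᵥ (g *ᵥ v) = 0 := by
  have h : v ⬝ᵥ (g *ᵥ v) = -(v ⬝ᵥ (g *ᵥ v)) := by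
    conv_lhs => rw [Matrix.dotProduct_mulVec, dotProduct_comm, ← Matrix.mulVec_transpose, hg, Matrix.neg_mulVec,
      dotProduct_neg]
  have : (2 : F) * (v ⬝ᵥ (g *ᵥ v)) = 0 := by linear_combination h
  exact (mul_eq_zero.1 this).resolve_left h2

theorem two_ne_zero_of_odd [Fintype F] (hodd : Odd (Fintype.card F)) : (2 : F) ≠ 0 :=
  QForm.two_ne_zero_of_odd rfl hodd

end Cfsg.Agent.GraphAut
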