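import Cfsg.Agent.Lib.GraphAut.Sim
import Cfsg.Agent.Lib.AutPSL.Group
import Cfsg.Agent.Lib.AutPSL.Split

/-!
Involutory graph automorphisms of `PSL_n`: correspondence with invertible (skew-)symmetric matrices, centralisers
as projective similitude groups, class splitting through determinants of similitudes.
-/

set_option autoImplicit false

open Matrix
open scoped MatrixGroups

namespace Cfsg.Agent.GraphAut

open AutPSL

variable {m : ℕ} {F : Type*} [Field F]

local notation "PSLn" => Matrix.ProjectiveSpecialLinearGroup (Fin (m + 1)) F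
local notation "GLn" => GL (Fin (m + 1)) F
local notation "scal" => Matrix.GeneralLinearGroup.scalar (Fin (m + 1))

/-- The graph automorphism `conjP g ∘ inverse-transpose`. -/
def gaut (g : GLn) : MulAut PSLn := conjP g * invP

theorem gaut_one : (gaut (1 : GLn) : MulAut PSLn) = invP := by rw [gaut, map_one, one_mul]

theorem isGraph_gaut (hm : 2 ≤ m) (g : GLn) : Cfsg.IsGraphAutClassPSL (gaut g) :=
  ⟨by omega, conjP g, invP, isInnerDiagonal_conjP g, isInvT_invP, rfl⟩

theorem gaut_mul_self (g : GLn) : (gaut g * gaut g : MulAut PSLn) = conjP (g * glIT g) := by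
  rw [gaut, map_mul]
  calc conjP g * invP * (conjP g * invP) = conjP g * (invP * conjP g) * invP := by group
    _ = conjP g * conjP (glIT g) := by
      rw [invP_mul_conjP, mul_assoc, mul_assoc (conjP (glIT g)), invP_mul_self, mul_one]

/-- The transpose as a unit. -/
def glT (g : GLn) : GLn := (glIT g)⁻¹

theorem glT_val (g : GLn) : (glT g).val = g.valᵀ := glIT_inv_val g

theorem smul_val (c : Fˣ) (g : GLn) : (g * scal c).val = (c : F) • g.val := by
  ext i j
  simp [Matrix.GeneralLinearGroup.coe_scalar, Matrix.mul_diagonal, mul_comm]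

theorem conj_gaut (h g : GLn) :
    (conjP h * gaut g * (conjP h)⁻¹ : MulAut PSLn) = gaut (h * g * glT h) := by
  rw [gaut, gaut, map_mul, map_mul, glT, ← map_inv]
  calc conjP h * (conjP g * invP) * conjP h⁻¹ = conjP h * conjP g * (invP * conjP h⁻¹) := by group
    _ = _ := by
      rw [invP_mul_conjP]
      have : glIT h⁻¹ = (glIT h)⁻¹ := by
        refine eq_inv_of_mul_eq_one_left ?_
        rw [← glIT_mul, inv_mul_cancel]
        exact Units.ext (by simp [glIT_val])
      rw [this]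
      group

section Finite

variable [Fintype F]

theorem gaut_eq_iff (hm : 1 ≤ m) (g g' : GLn) :
    (gaut g : MulAut PSLn) = gaut g' ↔ ∃ c : Fˣ, g.val = (c : F) • g'.val := by
  rw [gaut, gaut, mul_left_inj, conjP_eq_conjP_iff hm]
  exact exists_congr fun c => by rw [← smul_val, Units.ext_iff]

theorem orderOf_gaut (hm : 2 ≤ m) (g : GLn) {ε : F} (hε : g.valᵀ = ε • g.val) :
    orderOf (gaut g : MulAut PSLn) = 2 := by
  refine orderOf_eq_prime ?_ fun h => ?_
  · rw [sq, gaut_mul_self, conjP_eq_one_iff (by omega)]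
    have hε0 : ε ≠ 0 := by
      intro h0
      rw [h0, zero_smul, Matrix.transpose_eq_zero] at hε
      have := (Matrix.isUnit_iff_isUnit_det _).1 g.isUnit
      rw [hε, Matrix.det_zero] at this
      exact not_isUnit_zero this
    refine ⟨(Units.mk0 ε hε0)⁻¹, ?_⟩
    have hT : glT g = g * scal (Units.mk0 ε hε0) := Units.ext (by rw [smul_val, glT_val, hε]; rfl)
    rw [show glIT g = (glT g)⁻¹ from (inv_inv _).symm, hT, _root_.mul_inv_rev, ← map_inv, ← mul_assoc,
      ← scalar_commutes, mul_inv_cancel_right]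
  · refine invP_ne hm g⁻¹ 1 ?_
    rw [gaut] at h
    rw [fieldP_one, mul_one, map_inv, eq_inv_iff_mul_eq_one, mul_eq_one_comm, h]

omit [Fintype F] in
theorem exists_gaut (γ : MulAut PSLn) (hγ : Cfsg.IsGraphAutClassPSL γ) :
    ∃ g : GLn, γ = gaut g := by
  obtain ⟨-, δ, ι, hδ, hι, rfl⟩ := hγ
  obtain ⟨g, rfl⟩ := eq_conjP hδ
  exact ⟨g, by rw [eq_invP hι, gaut]⟩

theorem exists_gaut_of_invol (hm : 1 ≤ m) (γ : MulAut PSLn) (hγ : Cfsg.IsGraphAutClassPSL γ)
    (h2 : orderOf γ = 2) : ∃ (g : GLn) (ε : F), γ = gaut g ∧ g.valᵀ = ε • g.val ∧ (ε = 1 ∨ ε = -1) := by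
  obtain ⟨g, rfl⟩ := exists_gaut γ hγ
  have h1 : (gaut g * gaut g : MulAut PSLn) = 1 := by
    rw [← sq, ← h2, pow_orderOf_eq_one]
  rw [gaut_mul_self, conjP_eq_one_iff hm] at h1
  obtain ⟨c, hc⟩ := h1
  have hg : g.val = (c : F) • g.valᵀ := by
    rw [← glT_val, ← smul_val, ← scalar_commutes, ← hc, glT, mul_inv_cancel_right]
  have hT : g.valᵀ = (c : F) • g.val := by
    conv_lhs => rw [hg]
    rw [Matrix.transpose_smul, Matrix.transpose_transpose]
  refine ⟨g, c, rfl, hT, ?_⟩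
  have h3 : ((c : F) * c) • g.val = (1 : F) • g.val := by rw [mul_smul, ← hT, ← hg, one_smul]
  have hne : g.val ≠ 0 := fun h0 => by
    have := (Matrix.isUnit_iff_isUnit_det _).1 g.isUnit
    rw [h0, Matrix.det_zero] at this
    exact not_isUnit_zero this
  exact mul_self_eq_one_iff.1 (smul_left_injective F hne h3)

theorem isConjUnder_gaut_iff (hm : 1 ≤ m) (g g' : GLn) :
    Cfsg.IsConjUnder (Cfsg.inndiagPSL (m + 1) F) (gaut g) (gaut g') ↔ MatSim g.val g'.val := by
  rw [Cfsg.IsConjUnder, inndiagPSL_eq_range]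
  constructor
  · rintro ⟨_, ⟨h, rfl⟩, e⟩
    rw [conj_gaut, gaut_eq_iff hm] at e
    obtain ⟨c, hc⟩ := e
    refine MatSim.of_units (glT h) c⁻¹ ?_
    rw [Units.val_mul, Units.val_mul, glT_val] at hc
    rw [glT_val, Matrix.transpose_transpose, hc, smul_smul, Units.inv_mul, one_smul]
  · rintro ⟨P, Q, c, h1, h2, h3⟩
    obtain ⟨h, hh⟩ : ∃ h : GLn, h.val = Pᵀ := ⟨glT ⟨P, Q, h1, h2⟩, glT_val _⟩
    refine ⟨_, ⟨h, rfl⟩, ?_⟩
    rw [conj_gaut, gaut_eq_iff hm]
    refine ⟨c⁻¹, ?_⟩
    rw [Units.val_mul, Units.val_mul, glT_val, hh, Matrix.transpose_transpose, h3, smul_smul,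
      Units.inv_mul, one_smul]

theorem mem_centralizer_gaut (hm : 1 ≤ m) (g h : GLn) :
    (conjP h : MulAut PSLn) * gaut g * (conjP h)⁻¹ = gaut g ↔ glIT h ∈ simM g.val := by
  rw [conj_gaut, gaut_eq_iff hm, ← inv_mem_iff, show (glIT h)⁻¹ = glT h from rfl, mem_simM]
  rw [Units.val_mul, Units.val_mul, glT_val, Matrix.transpose_transpose]

/-- Similitudes to automorphisms commuting with `gaut g`. -/
def centHom (g : GLn) : simM g.val →* MulAut PSLn :=
  conjP.comp (MonoidHom.mk' (fun k : simM g.val => glIT (k : GLn)) fun _ _ => glIT_mul _ _)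

theorem range_centHom (hm : 1 ≤ m) (g : GLn) :
    (centHom g).range = Cfsg.inndiagPSL (m + 1) F ⊓ Subgroup.centralizer {(gaut g : MulAut PSLn)} := by
  rw [inndiagPSL_eq_range]
  ext x
  rw [Subgroup.mem_inf, mem_centralizer_singleton]
  constructor
  · rintro ⟨k, rfl⟩
    refine ⟨⟨_, rfl⟩, (mem_centralizer_gaut hm g (glIT (k : GLn))).2 ?_⟩
    rw [glIT_glIT]
    exact k.2
  · rintro ⟨⟨h, rfl⟩, hh⟩
    refine ⟨⟨glIT h, (mem_centralizer_gaut hm g h).1 hh⟩, ?_⟩
    show conjP (glIT (glIT h)) = conjP h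
    rw [glIT_glIT]

omit [Fintype F] in
theorem glIT_scalar (c : Fˣ) : glIT (scal c : GLn) = scal c⁻¹ := by
  refine Units.ext ?_
  rw [glIT_val, ← map_inv, Matrix.GeneralLinearGroup.coe_scalar]
  simp [Matrix.diagonal_transpose]

theorem ker_centHom (hm : 1 ≤ m) (g : GLn) :
    (centHom g).ker = (Cfsg.Geo.scalars (Fin (m + 1)) F).subgroupOf (simM g.val) := by
  ext k
  rw [MonoidHom.mem_ker, Subgroup.mem_subgroupOf, mem_scalars]
  show conjP (glIT (k : GLn)) = 1 ↔ _
  rw [conjP_eq_one_iff hm]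
  constructor
  · rintro ⟨c, hc⟩
    exact ⟨c⁻¹, by rw [← glIT_scalar, ← hc, glIT_glIT]⟩
  · rintro ⟨c, hc⟩
    exact ⟨c⁻¹, by rw [← hc, glIT_scalar]⟩

/-- The centraliser of `gaut g` in `PGL` is the projective similitude group of `g`. -/
noncomputable def centralizerGautEquiv (hm : 1 ≤ m) (g : GLn) :
    ↥(Cfsg.inndiagPSL (m + 1) F ⊓ Subgroup.centralizer {(gaut g : MulAut PSLn)}) ≃*
      Cfsg.projQuot (simM g.val) :=
  (MulEquiv.subgroupCongr (range_centHom hm g).symm).trans <|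
    (QuotientGroup.quotientKerEquivRange (centHom g)).symm.trans
      (QuotientGroup.quotientMulEquivOfEq (ker_centHom hm g))

theorem centralizer_equiv (hm : 1 ≤ m) (g : GLn) {κ : Type} [Fintype κ] [DecidableEq κ] {N : Matrix κ κ F}
    (h : MatSim g.val N) :
    Nonempty (↥(Cfsg.inndiagPSL (m + 1) F ⊓ Subgroup.centralizer {(gaut g : MulAut PSLn)}) ≃*
      Cfsg.projQuot (simM N)) :=
  h.projQuot_equiv.map fun e => (centralizerGautEquiv hm g).trans e

/-- The `PGL`-class of `gaut g` splits into `[Fˣ : det(similitudes)]` classes of `PSL`. -/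
theorem split_gaut (hm : 1 ≤ m) (g : GLn) :
    Cfsg.splitClassCount (Cfsg.inndiagPSL (m + 1) F) (Cfsg.Inn PSLn) (gaut g) =
      ((simM g.val).map Matrix.GeneralLinearGroup.det).index := by
  haveI : (Cfsg.Inn PSLn).Normal := inferInstance
  rw [splitClassCount_eq _ _ inn_le_inndiag]
  set D := (simM g.val).map (Matrix.GeneralLinearGroup.det : GLn →* Fˣ) with hD
  set S := Cfsg.Inn PSLn ⊔ (Cfsg.inndiagPSL (m + 1) F ⊓ Subgroup.centralizer {(gaut g : MulAut PSLn)}) with hS
  have hdetsurj : Function.Surjective (Matrix.GeneralLinearGroup.det : GLn →* Fˣ) :=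
    Matrix.GeneralLinearGroup.det_surjective
  rw [← Subgroup.index_comap_of_surjective D hdetsurj, inndiagPSL_eq_range, ← Subgroup.index_comap]
  congr 1
  have hscal : ∀ c : Fˣ, Matrix.GeneralLinearGroup.det (scal c : GLn) = c ^ (m + 1) := fun c =>
    Units.ext (by simp [Matrix.GeneralLinearGroup.val_det_apply, Matrix.GeneralLinearGroup.coe_scalar])
  have hpow : ∀ c : Fˣ, c ^ (m + 1) ∈ D := fun c => ⟨scal c, scalar_mem_simM _ c, hscal c⟩
  have hit : ∀ k : GLn, Matrix.GeneralLinearGroup.det (glIT k) = (Matrix.GeneralLinearGroup.det k)⁻¹ := by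
    intro k
    rw [show glIT k = (glT k)⁻¹ from (inv_inv _).symm, map_inv]
    exact congrArg _ (Units.ext (by simp [Matrix.GeneralLinearGroup.val_det_apply, glT_val]))
  ext h
  rw [Subgroup.mem_comap, Subgroup.mem_comap, hS, Subgroup.mem_sup_of_normal_left]
  constructor
  · rintro ⟨i, hi, x, hx, e⟩
    rw [← range_centHom hm] at hx
    obtain ⟨k, rfl⟩ := hx
    obtain ⟨u, hu⟩ : ∃ u, i = conjP u := by
      have := inn_le_inndiag (m := m) (F := F) hi
      rw [inndiagPSL_eq_range] at this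
      exact this.imp fun u hu => hu.symm
    subst hu
    obtain ⟨c, hc⟩ := (conjP_mem_inn_iff hm u).1 hi
    replace e : conjP h = (conjP (u * glIT (k : GLn)) : MulAut PSLn) := by rw [map_mul]; exact e.symm
    obtain ⟨d, rfl⟩ := (conjP_eq_conjP_iff hm _ _).1 e
    rw [map_mul, map_mul, hc, hit, hscal]
    exact mul_mem (mul_mem (hpow c) (inv_mem ⟨k, k.2, rfl⟩)) (hpow d)
  · rintro ⟨k, hk, e⟩
    refine ⟨conjP (h * glIT k), (conjP_mem_inn_iff hm _).2 ⟨1, ?_⟩, (conjP (glIT k))⁻¹, ?_, ?_⟩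
    · rw [map_mul, hit, e, mul_inv_cancel, one_pow]
    · refine inv_mem ?_
      rw [← range_centHom hm]
      exact ⟨⟨k, hk⟩, rfl⟩
    · rw [map_mul, mul_inv_cancel_right]

end Finite

end Cfsg.Agent.GraphAut
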