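import Cfsg.Agent.S2702

/-!
Orthogonal and symplectic models for invertible symmetric matrices in odd characteristic.
-/

set_option autoImplicit false

open Matrix
open scoped MatrixGroups

namespace Cfsg.Agent.GraphAut

variable {F : Type*} [Field F] [Fintype F]

/-- The projective similitude group of a symmetric form is not the symplectic one. -/
theorem sym_not_PGSp (h2 : (2 : F) ≠ 0) {k j : ℕ} (hj : 1 ≤ j) (hk : k + 1 = 2 * j) (g : GL (Fin (k + 1)) F)
    (hg : g.valᵀ = g.val) (h : Nonempty (Cfsg.projQuot (simM g.val) ≃* Cfsg.PGSp j F)) : False := by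
  obtain ⟨α, hα⟩ := FiniteField.exists_nonsquare (F := F) (fun h : ringChar F = 2 => h2 (by
    haveI : CharP F 2 := h ▸ ringChar.charP F
    exact CharTwo.two_eq_zero))
  have hab := S2700.exists_aniso hα
  have hd := QForm.not_isSquare_disc h2 hab
  have hd0 : (0 : F) ^ 2 - 4 * -α ≠ 0 := fun h => hd ⟨0, by rw [h]; simp⟩
  have hp1 : (-1 : F) ^ j ≠ 0 := pow_ne_zero _ (neg_ne_zero.2 one_ne_zero)
  obtain ⟨e⟩ := h
  have hcard := Nat.card_congr e.toEquiv
  have hgne : g.val ≠ 0 := fun h => det_ne_zero g (by rw [h, Matrix.det_zero])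
  rw [S2702.card_PGSp _ hj, card_projQuot_simM _ hgne (fun c => exists_sim_of_sym h2 (k := j) hk g hg c)] at hcard
  obtain ⟨i, rfl⟩ : ∃ i, j = i + 1 := ⟨j - 1, by omega⟩
  by_cases hsq : IsSquare (g.val.det * (-1) ^ (i + 1))
  · have hs := S2700.sym_matSim h2 g hg (QForm.plusForm F (i + 1))
      (Fintype.equivFinOfCardEq (by simp; omega)) (QForm.det_gram_plus F _) hp1 hsq
    rw [S2702.card_isoM_congr hs, ← isometryGroup_eq h2 _ (QForm.coe_plusForm F (i + 1)),
      Forms.card_isometryGroup _ Forms.quadPlus_apply, Forms.card_isomQ_quadPlus] at hcard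
    refine S2702.orth_card_ne h2 i _ (Or.inr ?_) hcard
    rw [Nat.cast_sub (Nat.one_le_pow _ _ Fintype.card_pos), Nat.cast_pow, FiniteField.cast_card_eq_zero,
      zero_pow (by omega), Nat.cast_one, zero_sub]
  · have hs := S2700.sym_matSim h2 g hg (QForm.minusForm F i 0 (-α))
      (Fintype.equivFinOfCardEq (by simp; omega)) (QForm.det_gram_minus F i 0 (-α)) (mul_ne_zero hp1 hd0)
      (by rw [← mul_assoc, QForm.isSquare_mul_nonsquare_iff (mul_ne_zero (det_ne_zero g) hp1) hd]; exact hsq)
    rw [S2702.card_isoM_congr hs, ← isometryGroup_eq h2 _ (QForm.coe_minusForm F i 0 (-α)),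
      Forms.card_isometryGroup _ Forms.quadMinus_apply, Forms.card_isomQ_quadMinus _ hab] at hcard
    refine S2702.orth_card_ne h2 i _ (Or.inl ?_) hcard
    rw [Nat.cast_add, Nat.cast_pow, FiniteField.cast_card_eq_zero, zero_pow (by omega), Nat.cast_one, zero_add]

omit [Fintype F] in
/-- An alternating matrix has skew transpose. -/
theorem skew_of_alt {ι : Type} [Fintype ι] [DecidableEq ι] {M : Matrix ι ι F} (h : ∀ v, v ⬝ᵥ (M *ᵥ v) = 0) :
    Mᵀ = -M := by
  ext i j
  have hij := h (Pi.single i 1 + Pi.single j 1)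
  have hi := h (Pi.single i 1)
  have hj := h (Pi.single j 1)
  simp only [Matrix.mulVec_add, add_dotProduct, dotProduct_add, Matrix.mulVec_single_one, single_dotProduct,
    one_mul, Matrix.col_apply] at hij hi hj
  rw [Matrix.transpose_apply, Matrix.neg_apply]
  linear_combination hij - hi - hj

end Cfsg.Agent.GraphAut
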